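import Cfsg.Agent.Lib.M12Order.Invol

/-!
A finite check on the characters of `M12` of degree divisible by `11`: some degree is a multiple of `5`, and some
a multiple of `3`.
-/

set_option autoImplicit false
set_option maxRecDepth 20000

namespace CfsgLib.DegM12

/-- The possible `(m², m v, v², a²)` of a character of degree `11 m` with `m` prime to `3`. -/
def opts3 : List (ℕ × ℤ × ℕ × ℕ) :=
  [(400, 0, 0, 0), (256, 16, 1, 16), (100, 0, 0, 100), (64, -16, 4, 64), (64, -16, 4, 0), (25, 0, 0, 25), (16, -4, 1, 16), (4, 4, 4, 100), (4, 4, 4, 4), (1, 1, 1, 81), (1, 1, 1, 1)]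

/-- The possible `(m², m v, v², a²)` of a character of degree `11 m` with `m` prime to `5`. -/
def opts5 : List (ℕ × ℤ × ℕ × ℕ) :=
  [(324, -36, 4, 100), (324, -36, 4, 4), (256, 16, 1, 16), (144, 24, 4, 64), (144, 24, 4, 0), (81, -9, 1, 121), (81, -9, 1, 81), (81, -9, 1, 1), (64, -16, 4, 64), (64, -16, 4, 0), (36, 6, 1, 36), (16, -4, 1, 16), (9, -6, 4, 49), (9, -6, 4, 25), (9, -6, 4, 9), (4, 4, 4, 100), (4, 4, 4, 4), (1, 1, 1, 81), (1, 1, 1, 1)]

/-- Is `(q, s, v)` with slack `a` a sum of elements of the list? -/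
def reach : List (ℕ × ℤ × ℕ × ℕ) → ℕ → ℤ → ℕ → ℕ → Bool
  | [], q, s, v, _ => Nat.beq q 0 && decide (s = 0) && Nat.beq v 0
  | o :: os, q, s, v, a => (List.range (q / o.1 + 1)).any fun k =>
      Nat.ble (k * o.2.2.1) v && Nat.ble (k * o.2.2.2) a &&
        reach os (q - k * o.1) (s - (k : ℤ) * o.2.1) (v - k * o.2.2.1) (a - k * o.2.2.2)

theorem reach_of {ι : Type*} (f : ι → ℕ × ℤ × ℕ × ℕ) :
    ∀ (L : List (ℕ × ℤ × ℕ × ℕ)), (∀ o ∈ L, 0 < o.1) → ∀ (R : Finset ι) (q : ℕ) (s : ℤ) (v a : ℕ),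
      (∀ x ∈ R, f x ∈ L) → ∑ x ∈ R, (f x).1 = q → ∑ x ∈ R, (f x).2.1 = s →
      ∑ x ∈ R, (f x).2.2.1 = v → ∑ x ∈ R, (f x).2.2.2 ≤ a → reach L q s v a = true := by
  classical
  intro L
  induction L with
  | nil =>
    intro _ R q s v a hR hq hs hv _
    obtain rfl : R = ∅ := Finset.eq_empty_of_forall_notMem fun x hx => by simpa using hR x hx
    simp at hq hs hv
    simp [reach, ← hq, ← hs, ← hv]
  | cons o os ih =>
    intro hpos R q s v a hR hq hs hv ha
    set A := R.filter fun x => f x = o with hA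
    set B := R.filter fun x => ¬ f x = o with hB
    have hB' : ∀ x ∈ B, f x ∈ os := by
      intro x hx
      rw [hB, Finset.mem_filter] at hx
      exact (List.mem_cons.1 (hR x hx.1)).resolve_left hx.2
    have hAf : ∀ x ∈ A, f x = o := fun x hx => (Finset.mem_filter.1 hx).2
    have split : ∀ {M : Type} [AddCommMonoid M] (g : ℕ × ℤ × ℕ × ℕ → M),
        ∑ x ∈ R, g (f x) = A.card • g o + ∑ x ∈ B, g (f x) := by
      intro M _ g
      rw [← Finset.sum_filter_add_sum_filter_not R fun x => f x = o]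
      congr 1
      rw [Finset.sum_congr rfl fun x hx => by rw [hAf x hx], Finset.sum_const]
    have e1 := split fun o => o.1
    have e2 := split fun o => o.2.1
    have e3 := split fun o => o.2.2.1
    have e4 := split fun o => o.2.2.2
    simp only [smul_eq_mul] at e1 e3 e4
    rw [nsmul_eq_mul] at e2
    rw [hq] at e1; rw [hs] at e2; rw [hv] at e3
    simp only [reach, List.any_eq_true, List.mem_range, Bool.and_eq_true, Nat.ble_eq]
    refine ⟨A.card, ?_, ⟨by omega, by omega⟩, ih (fun p hp => hpos p (List.mem_cons_of_mem _ hp)) B _ _ _ _ hB'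
      (by omega) (by linarith) (by omega) (by omega)⟩
    have := (Nat.le_div_iff_mul_le (hpos o (List.mem_cons_self ..))).2 (show A.card * o.1 ≤ q by omega)
    omega

theorem not_reach_three : reach opts3 450 15 5 130 = false := by
  decide +kernel

theorem not_reach_five : reach opts5 450 15 5 130 = false := by
  decide +kernel

/-- The table `opts3`, `opts5` against the congruences. -/
def optOk (m a v w : ℤ) : Bool :=
  !(decide (0 < m) && decide (m ∣ 8640) && decide ((4 : ℤ) ∣ a - 11 * m) && decide ((5 : ℤ) ∣ v - 11 * m) &&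
      decide ((5 : ℤ) ∣ a - w) && decide ((2 : ℤ) ∣ v - w) &&
      (!decide ((5 : ℤ) ∣ m) || (decide (v = 0) && decide (w = 0))) &&
      decide (-(11 * m) < a) && decide (a < 11 * m)) ||
    ((decide ((3 : ℤ) ∣ m) || opts3.contains ((m ^ 2).toNat, m * v, (v ^ 2).toNat, (a ^ 2).toNat)) &&
      (decide ((5 : ℤ) ∣ m) || opts5.contains ((m ^ 2).toNat, m * v, (v ^ 2).toNat, (a ^ 2).toNat)))

theorem mem_opts (m a v w : ℤ) (hm : 0 < m) (hm' : m ≤ 21) (hmd : m ∣ 8640) (ha : a ^ 2 ≤ 130)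
    (hv : v ^ 2 ≤ 5) (hw : w ^ 2 ≤ 5) (h1 : (4 : ℤ) ∣ a - 11 * m) (h2 : (5 : ℤ) ∣ v - 11 * m)
    (h3 : (5 : ℤ) ∣ a - w) (h4 : (2 : ℤ) ∣ v - w) (h0 : (5 : ℤ) ∣ m → v = 0 ∧ w = 0)
    (ha1 : -(11 * m) < a) (ha2 : a < 11 * m) :
    (¬ (3 : ℤ) ∣ m → ((m ^ 2).toNat, m * v, (v ^ 2).toNat, (a ^ 2).toNat) ∈ opts3) ∧
    (¬ (5 : ℤ) ∣ m → ((m ^ 2).toNat, m * v, (v ^ 2).toNat, (a ^ 2).toNat) ∈ opts5) := by
  have key : ∀ m : Fin 22, ∀ a : Fin 23, ∀ v w : Fin 5,
      optOk ((m : ℕ) : ℤ) (((a : ℕ) : ℤ) - 11) (((v : ℕ) : ℤ) - 2) (((w : ℕ) : ℤ) - 2) = true := by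
    decide +kernel
  have a1 : -11 ≤ a := by nlinarith
  have a2 : a ≤ 11 := by nlinarith
  have v1 : -2 ≤ v := by nlinarith
  have v2 : v ≤ 2 := by nlinarith
  have w1 : -2 ≤ w := by nlinarith
  have w2 : w ≤ 2 := by nlinarith
  have h := key ⟨m.toNat, by omega⟩ ⟨(a + 11).toNat, by omega⟩ ⟨(v + 2).toNat, by omega⟩ ⟨(w + 2).toNat, by omega⟩
  simp only [Int.toNat_of_nonneg (show 0 ≤ m by omega), Int.toNat_of_nonneg (show 0 ≤ a + 11 by omega),
    Int.toNat_of_nonneg (show 0 ≤ v + 2 by omega), Int.toNat_of_nonneg (show 0 ≤ w + 2 by omega),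
    add_sub_cancel_right, optOk, Bool.or_eq_true, Bool.and_eq_true, Bool.not_eq_true', decide_eq_true_eq,
    List.contains_iff_mem] at h
  rcases h with h | ⟨g3, g5⟩
  · exfalso
    have h0' : (!decide ((5 : ℤ) ∣ m) || (decide (v = 0) && decide (w = 0))) = true := by
      by_cases h5 : (5 : ℤ) ∣ m
      · simp [(h0 h5).1, (h0 h5).2]
      · simp [h5]
    simp [hm, hmd, h1, h2, h3, h4, h0', ha1, ha2] at h
  · exact ⟨fun n => g3.resolve_left n, fun n => g5.resolve_left n⟩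

end CfsgLib.DegM12
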