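import Cfsg.Agent.Lib.DegM12.Combo

/-!
Degree data of a simple group of order `95040` with the census of `M12`: a degree divisible by `55` and one
divisible by `33`.  The first part follows the proof of `CfsgLib.M12Order.centralizer_and_sum_degree`.
-/

set_option autoImplicit false
set_option linter.style.haveILetI false

open scoped ComplexConjugate

namespace CfsgLib.DegM12

open Subgroup SmallOrder M12Order

universe u

variable {G : Type u} [Group G] [Fintype G] [IsSimpleGroup G]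

variable (hG : Nat.card G = 95040) (K : Eleven G) (hW : K.W = 1 ∧ K.f0 = 16)
  (hL : (K.L.map fun χ => (K.w χ, Char.degree χ.1)).Perm [(-1, 45), (1, 54), (1, 120), (-1, 144)])
  (h5 : ∀ y : G, orderOf y = 5 → Nat.card ↥(centralizer ({y} : Set G)) = 10 ∧
    Nat.card ↥(normalizer ((zpowers y : Subgroup G) : Set G)) = 40)
  (h11 : ∀ z : G, orderOf z = 11 → Nat.card ↥(centralizer ({z} : Set G)) = 11)

set_option maxHeartbeats 1000000 in
include hG hW hL h5 h11 in
theorem exists_degrees {y s : G} (hy : orderOf y = 5) (hs : orderOf s = 2)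
    (hc : Commute s y) : (∃ χ : Cfsg.IrrCharacter G, 55 ∣ Char.degree χ.1) ∧
      ∃ χ : Cfsg.IrrCharacter G, 33 ∣ Char.degree χ.1 := by
  classical
  have hs1 : s ≠ 1 := fun h => by rw [h, orderOf_one] at hs; norm_num at hs
  have hy1 : y ≠ 1 := fun h => by rw [h, orderOf_one] at hy; norm_num at hy
  have hs2 : s ^ 2 = 1 := by rw [← hs]; exact pow_orderOf_eq_one s
  have hg := orderOf_mul_ten hy hs hc
  have hnc := not_comm hG
  -- the values of a non-principal character
  have hval : ∀ χ : Cfsg.IrrCharacter G, χ ≠ Char.principalIrr → ∃ a v w : ℤ,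
      χ.1 s = a ∧ χ.1 y = v ∧ χ.1 (s * y) = w ∧ (5 : ℤ) ∣ v - Char.degree χ.1 ∧ (2 : ℤ) ∣ v - w ∧
      (5 : ℤ) ∣ a - w ∧ (4 : ℤ) ∣ a - Char.degree χ.1 ∧ -(Char.degree χ.1 : ℤ) < a ∧
      a < Char.degree χ.1 ∧ (5 ∣ Char.degree χ.1 → v = 0 ∧ w = 0) := by
    intro χ hχ
    obtain ⟨m, ⟨j, rfl⟩, hm0, hmf, hm⟩ := exists_involution_value hnc hχ hs1 hs2
    obtain ⟨v, w, hv, hw, d1, d2, d3⟩ := exists_values h5 hy hs hc (Char.IsIrrCharacter.isCharacter χ.2)
      (f := Char.degree χ.1) (Char.IsCharacter.degree_cast (Char.IsIrrCharacter.isCharacter χ.2)).symm hm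
    refine ⟨_, v, w, hm, hv, hw, d1, by omega, by omega, ⟨-(j : ℤ), by push_cast; ring⟩, by omega,
      by omega, fun hd => ?_⟩
    have hdvd : Char.degree χ.1 ∣ Nat.card G := degree_dvd_card χ
    have hk : ¬ 5 ∣ Nat.card G / Char.degree χ.1 := fun hh => by
      have := Nat.mul_dvd_mul hd hh
      rw [Nat.mul_div_cancel' hdvd, hG] at this
      norm_num at this
    have hcard : Nat.card G = Cfsg.charDegree (χ : G → ℂ) * (Nat.card G / Char.degree χ.1) :=
      (Nat.mul_div_cancel' hdvd).symm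
    have z1 := DegMultiset.vanish_of_cofactor (by norm_num) χ hcard hk (g := y) (by rw [hy])
    have z2 := DegMultiset.vanish_of_cofactor (by norm_num) χ hcard hk (g := s * y) (by rw [hg]; norm_num)
    rw [hv] at z1; rw [hw] at z2
    exact ⟨by exact_mod_cast z1, by exact_mod_cast z2⟩
  -- the four characters of the block
  have hmem : ∀ e : ℤ, ∀ d : ℕ, (e, d) ∈ [((-1 : ℤ), (45 : ℕ)), (1, 54), (1, 120), (-1, 144)] →
      ∃ χ ∈ K.L, K.w χ = e ∧ Char.degree χ.1 = d := fun e d h => by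
    obtain ⟨χ, hχ, he⟩ := List.mem_map.1 (hL.mem_iff.2 h)
    exact ⟨χ, hχ, congrArg Prod.fst he, congrArg Prod.snd he⟩
  obtain ⟨b, hbL, hbw, hbd⟩ := hmem (-1) 45 (by simp)
  obtain ⟨c, hcL, hcw, hcd⟩ := hmem 1 54 (by simp)
  obtain ⟨d, hdL, hdw, hdd⟩ := hmem 1 120 (by simp)
  obtain ⟨e, heL, hew, hed⟩ := hmem (-1) 144 (by simp)
  have hnd4 : [b, c, d, e].Nodup := by
    refine List.Nodup.of_map (fun χ => Char.degree χ.1) ?_
    simp [hbd, hcd, hdd, hed]
  have hperm : [b, c, d, e].Perm K.L := by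
    refine (List.subperm_of_subset hnd4 ?_).perm_of_length_le ?_
    · intro x hx
      simp only [List.mem_cons, List.not_mem_nil, or_false] at hx
      rcases hx with rfl | rfl | rfl | rfl <;> assumption
    · have := hL.length_eq
      simp only [List.length_map, List.length_cons, List.length_nil] at this ⊢
      omega
  set P : List (Cfsg.IrrCharacter G) := [Char.principalIrr, K.x1, K.x2, b, c, d, e] with hP
  have hPnd : P.Nodup :=
    ((((hperm.cons K.x2).cons K.x1).cons Char.principalIrr).nodup_iff).2 K.nodup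
  set R := Finset.univ \ P.toFinset with hR
  have hsplit : ∀ {M : Type} [AddCommMonoid M] (F : Cfsg.IrrCharacter G → M),
      ∑ χ, F χ = F Char.principalIrr + (F K.x1 + (F K.x2 + (F b + (F c + (F d + (F e + 0)))))) +
        ∑ χ ∈ R, F χ := by
    intro M _ F
    rw [← Finset.sum_sdiff (Finset.subset_univ P.toFinset), add_comm, List.sum_toFinset F hPnd]
    rfl
  have hRmem : ∀ χ ∈ R, χ ≠ Char.principalIrr ∧ 11 ∣ Char.degree χ.1 := by
    intro χ hχ
    simp only [hR, hP, Finset.mem_sdiff, List.mem_toFinset, List.mem_cons, List.not_mem_nil, or_false,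
      not_or] at hχ
    obtain ⟨-, h1, h2, h3, h4, h5', h6, h7⟩ := hχ
    refine ⟨h1, K.hout χ h1 (fun h => ?_) h2 h3⟩
    have := hperm.mem_iff.2 h
    simp only [List.mem_cons, List.not_mem_nil, or_false] at this
    rcases this with h' | h' | h' | h' <;> contradiction
  have hx1 : Char.degree K.x1.1 = 16 := K.hx1.trans hW.2
  have hx2 : Char.degree K.x2.1 = 16 := K.hx2.trans hW.2
  have hne : ∀ χ : Cfsg.IrrCharacter G, Char.degree χ.1 ≠ 1 → χ ≠ Char.principalIrr := fun χ h h' =>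
    h (h' ▸ M11Order.principal_degree)
  -- values as integer functions
  have hall : ∀ χ : Cfsg.IrrCharacter G, ∃ a v w : ℤ, χ.1 s = a ∧ χ.1 y = v ∧ χ.1 (s * y) = w ∧
      (χ = Char.principalIrr → a = 1 ∧ v = 1 ∧ w = 1) ∧
      (χ ≠ Char.principalIrr → (5 : ℤ) ∣ v - Char.degree χ.1 ∧ (2 : ℤ) ∣ v - w ∧
        (5 : ℤ) ∣ a - w ∧ (4 : ℤ) ∣ a - Char.degree χ.1 ∧ -(Char.degree χ.1 : ℤ) < a ∧
        a < Char.degree χ.1 ∧ (5 ∣ Char.degree χ.1 → v = 0 ∧ w = 0)) := by
    intro χ
    by_cases h : χ = Char.principalIrr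
    · subst h
      exact ⟨1, 1, 1, by simp [Char.principalIrr_apply], by simp [Char.principalIrr_apply],
        by simp [Char.principalIrr_apply], fun _ => ⟨rfl, rfl, rfl⟩, fun h => absurd rfl h⟩
    · obtain ⟨a, v, w, ha, hv, hw, hh⟩ := hval χ h
      exact ⟨a, v, w, ha, hv, hw, fun h' => absurd h' h, fun _ => hh⟩
  choose A V W hA hV hWW hpr hnp using hall
  obtain ⟨p1, p2, p3⟩ := hpr _ rfl
  have hprd : Char.degree (Char.principalIrr : Cfsg.IrrCharacter G).1 = 1 := M11Order.principal_degree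
  -- the exceptional characters agree
  have ox : ∀ z : G, ¬ 11 ∣ orderOf z → K.x2.1 z = K.x1.1 z := fun z hz => (K.orth z hz).1
  have ea : A K.x2 = A K.x1 :=
    Int.cast_injective (α := ℂ) (by rw [← hA, ← hA, ox s (by rw [hs]; norm_num)])
  have ev : V K.x2 = V K.x1 :=
    Int.cast_injective (α := ℂ) (by rw [← hV, ← hV, ox y (by rw [hy]; norm_num)])
  have ew : W K.x2 = W K.x1 :=
    Int.cast_injective (α := ℂ) (by rw [← hWW, ← hWW, ox (s * y) (by rw [hg]; norm_num)])
  have hblock : -1 + (-V b + (V c + (V d + -V e))) + V K.x1 = 0 := by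
    have h := (K.orth y (by rw [hy]; norm_num)).2
    rw [← (hperm.map _).sum_eq, hW.1] at h
    simp only [List.map_cons, List.map_nil, List.sum_cons, List.sum_nil, hbw, hcw, hdw, hew, hV] at h
    apply Int.cast_injective (α := ℂ)
    push_cast at h ⊢
    linear_combination h
  -- the columns
  have norm : ∀ (g : G) (F : Cfsg.IrrCharacter G → ℤ), (∀ χ, χ.1 g = F χ) →
      ∑ χ, F χ ^ 2 = (Nat.card ↥(centralizer ({g} : Set G)) : ℤ) := by
    intro g F hF
    apply Int.cast_injective (α := ℂ)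
    have h := Char.sum_mul_conj g g
    rw [if_pos (IsConj.refl g)] at h
    push_cast
    rw [← h]
    refine Finset.sum_congr rfl fun χ _ => ?_
    rw [hF, map_intCast, sq]
  have nV := norm y V hV
  rw [(h5 y hy).1] at nV
  have hCg : centralizer ({s * y} : Set G) = centralizer ({y} : Set G) := by
    refine le_antisymm ?_ ?_
    · intro x hx
      rw [mem_centralizer_singleton_iff] at hx ⊢
      have h6 : (s * y) ^ 6 = y := by
        rw [hc.mul_pow, show (6 : ℕ) = 5 + 1 from rfl, pow_succ y, show y ^ 5 = 1 by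
          rw [← hy]; exact pow_orderOf_eq_one y, one_mul, show (5 : ℕ) + 1 = 2 * 3 from rfl, pow_mul,
          hs2, one_pow, one_mul]
      have h' : Commute x ((s * y) ^ 6) := Commute.pow_right hx 6
      rw [h6] at h'
      exact h'.eq
    · intro x hx
      rw [mem_centralizer_singleton_iff]
      have hxs : Commute x s := by
        have hxn : x ∈ normalizer ((zpowers y : Subgroup G) : Set G) := by
          have hxy : Commute x y := mem_centralizer_singleton_iff.1 hx
          refine mem_normalizer_iff.2 fun h => ⟨fun hh => ?_, fun hh => ?_⟩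
          · obtain ⟨k, rfl⟩ := mem_zpowers_iff.1 hh
            rwa [(hxy.zpow_right k).eq, mul_inv_cancel_right]
          · obtain ⟨k, hk⟩ := mem_zpowers_iff.1 hh
            have e : h = x⁻¹ * y ^ k * x := by rw [hk]; group
            rw [e, mul_assoc, ← (hxy.zpow_right k).eq, inv_mul_cancel_left]
            exact zpow_mem (mem_zpowers y) k
        exact (mul_inv_eq_iff_eq_mul.1 (conj_eq_of_mem_normalizer h5 hy hs hc hxn))
      exact (hxs.mul_right (mem_centralizer_singleton_iff.1 hx)).eq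
  have nW := norm (s * y) W hWW
  rw [hCg, (h5 y hy).1] at nW
  have nA := norm s A hA
  have colV : ∑ χ, (Char.degree χ.1 : ℤ) * V χ = 0 := by
    apply Int.cast_injective (α := ℂ)
    have h := Char.sum_apply_one_mul y
    rw [if_neg hy1] at h
    push_cast
    rw [← h]
    refine Finset.sum_congr rfl fun χ _ => ?_
    rw [Char.IsCharacter.degree_cast (Char.IsIrrCharacter.isCharacter χ.2), hV]
  have hsq : ∑ χ : Cfsg.IrrCharacter G, (Char.degree χ.1 : ℤ) ^ 2 = 95040 := by
    have h := Char.sum_degree_sq (G := G)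
    rw [hG] at h
    exact_mod_cast h
  rw [hsplit] at nV nW nA colV hsq
  simp only [hprd, hx1, hx2, hbd, hcd, hdd, hed, p1, p2, p3, ea, ev, ew] at nV nW nA colV hsq
  obtain ⟨b1, b2, b3, b4, b5, b6, b7⟩ := hnp b (hne b (by omega))
  obtain ⟨c1, c2, c3, c4, c5, c6, -⟩ := hnp c (hne c (by omega))
  obtain ⟨d1, d2, d3, d4, d5, d6, d7⟩ := hnp d (hne d (by omega))
  obtain ⟨e1, e2, e3, e4, e5, e6, -⟩ := hnp e (hne e (by omega))
  obtain ⟨x1', x2', x3, x4, x5, x6, -⟩ := hnp K.x1 (hne K.x1 (by omega))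
  rw [hbd] at b1 b4 b5 b6 b7
  rw [hcd] at c1 c4 c5 c6
  rw [hdd] at d1 d4 d5 d6 d7
  rw [hed] at e1 e4 e5 e6
  rw [hx1] at x1' x4 x5 x6
  obtain ⟨bv, bw⟩ := b7 (by norm_num)
  obtain ⟨dv, dw⟩ := d7 (by norm_num)
  rw [bv, dv] at nV colV hblock
  rw [bw, dw] at nW
  simp only [Nat.cast_ofNat] at nV nW colV
  rw [bw] at b3
  rw [dw] at d3
  have rV : 0 ≤ ∑ χ ∈ R, V χ ^ 2 := Finset.sum_nonneg fun χ _ => sq_nonneg _
  have rW : 0 ≤ ∑ χ ∈ R, W χ ^ 2 := Finset.sum_nonneg fun χ _ => sq_nonneg _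
  have rA : 0 ≤ ∑ χ ∈ R, A χ ^ 2 := Finset.sum_nonneg fun χ _ => sq_nonneg _
  obtain ⟨vc, ve, vx⟩ := known_v (c := V c) (e := V e) (x := V K.x1) (S := ∑ χ ∈ R, V χ ^ 2)
    (by linarith only [nV]) rV c1 e1 x1' (by linarith only [hblock])
  rw [vc, ve, vx] at nV colV
  rw [vc] at c2
  rw [ve] at e2
  rw [vx] at x2'
  obtain ⟨sc1, se1, sx1⟩ := known_w (c := W c) (e := W e) (x := W K.x1) (S := ∑ χ ∈ R, W χ ^ 2)
    (by linarith only [nW]) rW c2 e2 x2'
  rw [sc1, se1, sx1] at nW
  have hka := known_a (ab := A b) (ac := A c) (ad := A d) (ae := A e) (ax := A K.x1)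
    b3 b4 c4 c3 sc1 e4 e3 se1 x4 x3 sx1
  -- the order of the centraliser
  have h240 : Nat.card ↥(centralizer ({s} : Set G)) = 240 := by
    have hcases := card_centralizer_cases hG h5 h11 hy hs hc
    simp only [List.mem_cons, List.not_mem_nil, or_false] at hcases
    have hidx := Subgroup.card_mul_index (centralizer ({s} : Set G))
    rw [hG] at hidx
    obtain ⟨k, hk⟩ : ∃ k : ℤ, ((centralizer ({s} : Set G)).index : ℤ) * A c = 54 * k := by
      obtain ⟨n, ρ, hρ, hρc⟩ := c.2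
      haveI := hρ
      have hi := Char.isIntegral_index_mul_char_div ρ s
      have hn : (Module.finrank ℂ (Fin n → ℂ) : ℂ) = (54 : ℕ) := by
        rw [← hcd, Char.IsCharacter.degree_cast (Char.IsIrrCharacter.isCharacter c.2)]
        rw [← hρc, Representation.char_one]
      rw [hn, hρc, hA] at hi
      obtain ⟨k, hk⟩ := Char.exists_int_of_isIntegral_ratCast
        (q := (((centralizer ({s} : Set G)).index : ℤ) * A c : ℤ) / 54) (by push_cast at hi ⊢; exact hi)
      refine ⟨k, ?_⟩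
      have : ((((centralizer ({s} : Set G)).index : ℤ) * A c : ℤ) : ℚ) = ((54 * k : ℤ) : ℚ) := by
        rw [eq_div_iff (by norm_num)] at hk
        rw [← hk]; push_cast; ring
      exact_mod_cast this
    rcases hcases with h | h | h | h
    · exfalso
      rw [h] at nA
      push_cast at nA
      linarith only [nA, hka, rA]
    · exact h
    · exfalso
      rw [h] at hidx
      rw [show (centralizer ({s} : Set G)).index = 66 by omega] at hk
      exact class_excl (Or.inl rfl) hk c4 c3 sc1 c5 c6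
    · exfalso
      rw [h] at hidx
      rw [show (centralizer ({s} : Set G)).index = 11 by omega] at hk
      exact class_excl (Or.inr rfl) hk c4 c3 sc1 c5 c6
  rw [h240] at nA
  push_cast at nA nV nW colV hsq
  have hch : ∀ χ ∈ R, ∃ m : ℕ, Char.degree χ.1 = 11 * m ∧
      ((¬ 3 ∣ m → (((m : ℤ) ^ 2).toNat, (m : ℤ) * V χ, (V χ ^ 2).toNat, (A χ ^ 2).toNat) ∈ opts3) ∧
      (¬ 5 ∣ m → (((m : ℤ) ^ 2).toNat, (m : ℤ) * V χ, (V χ ^ 2).toNat, (A χ ^ 2).toNat) ∈ opts5)) := by
    intro χ hχ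
    obtain ⟨h1, m, hm⟩ := hRmem χ hχ
    obtain ⟨q1, q2, q3, q4, q5, q6, q7⟩ := hnp χ h1
    have hpos : 0 < Char.degree χ.1 := Char.IsIrrCharacter.degree_pos χ.2
    have sA : A χ ^ 2 ≤ 130 := by
      have := Finset.single_le_sum (f := fun χ => A χ ^ 2) (fun i _ => sq_nonneg _) hχ
      linarith
    have sV : V χ ^ 2 ≤ 5 := by
      have := Finset.single_le_sum (f := fun χ => V χ ^ 2) (fun i _ => sq_nonneg _) hχ
      linarith
    have sW : W χ ^ 2 ≤ 5 := by
      have := Finset.single_le_sum (f := fun χ => W χ ^ 2) (fun i _ => sq_nonneg _) hχ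
      linarith
    have sF : (Char.degree χ.1 : ℤ) ^ 2 ≤ 54450 := by
      have := Finset.single_le_sum (f := fun χ : Cfsg.IrrCharacter G => (Char.degree χ.1 : ℤ) ^ 2)
        (fun i _ => sq_nonneg _) hχ
      linarith
    have hdm : (m : ℤ) ∣ 8640 := by
      have h := degree_dvd_card χ
      rw [hG, hm, show 95040 = 11 * 8640 from rfl] at h
      exact_mod_cast Nat.dvd_of_mul_dvd_mul_left (by norm_num) h
    rw [hm] at q7
    rw [hm] at hpos
    have hmz : (Char.degree χ.1 : ℤ) = 11 * (m : ℤ) := by rw [hm]; push_cast; ring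
    rw [hmz] at q1 q4 q5 q6 sF
    have hm21 : (m : ℤ) ≤ 21 := by nlinarith
    have h0 : (5 : ℤ) ∣ (m : ℤ) → V χ = 0 ∧ W χ = 0 := fun h =>
      q7 (Dvd.dvd.mul_left (by exact_mod_cast h) 11)
    obtain ⟨g3, g5⟩ := mem_opts m (A χ) (V χ) (W χ) (by omega) hm21 hdm sA sV sW q4 q1 q3 q2 h0 q5 q6
    exact ⟨m, hm, fun h => g3 fun h' => h (by exact_mod_cast h'), fun h => g5 fun h' => h (by exact_mod_cast h')⟩
  choose! M hM hopt using hch
  set F : Cfsg.IrrCharacter G → ℕ × ℤ × ℕ × ℕ := fun χ =>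
    (((M χ : ℤ) ^ 2).toNat, (M χ : ℤ) * V χ, (V χ ^ 2).toNat, (A χ ^ 2).toNat) with hF
  have hdeg : ∀ χ ∈ R, (Char.degree χ.1 : ℤ) = 11 * (M χ : ℤ) := fun χ hχ => by
    rw [hM χ hχ]; push_cast; ring
  have s1 : ∑ χ ∈ R, (F χ).1 = 450 := by
    have h : ((∑ χ ∈ R, (F χ).1 : ℕ) : ℤ) * 121 = 54450 := by
      rw [Nat.cast_sum, Finset.sum_mul, Finset.sum_congr rfl fun χ hχ =>
        show ((F χ).1 : ℤ) * 121 = (Char.degree χ.1 : ℤ) ^ 2 by
          simp only [hF, Int.toNat_of_nonneg (sq_nonneg _), hdeg χ hχ]; ring]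
      linarith
    omega
  have s2 : ∑ χ ∈ R, (F χ).2.1 = 15 := by
    have h : (∑ χ ∈ R, (F χ).2.1) * 11 = 165 := by
      rw [Finset.sum_mul, Finset.sum_congr rfl fun χ hχ =>
        show (F χ).2.1 * 11 = (Char.degree χ.1 : ℤ) * V χ by simp only [hF, hdeg χ hχ]; ring]
      linarith
    linarith
  have s3 : ∑ χ ∈ R, (F χ).2.2.1 = 5 := by
    have h : ((∑ χ ∈ R, (F χ).2.2.1 : ℕ) : ℤ) = 5 := by
      rw [Nat.cast_sum, Finset.sum_congr rfl fun χ _ =>
        show ((F χ).2.2.1 : ℤ) = V χ ^ 2 by simp only [hF, Int.toNat_of_nonneg (sq_nonneg _)]]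
      linarith
    exact_mod_cast h
  have s4 : ∑ χ ∈ R, (F χ).2.2.2 ≤ 130 := by
    have h : ((∑ χ ∈ R, (F χ).2.2.2 : ℕ) : ℤ) ≤ 130 := by
      rw [Nat.cast_sum, Finset.sum_congr rfl fun χ _ =>
        show ((F χ).2.2.2 : ℤ) = A χ ^ 2 by simp only [hF, Int.toNat_of_nonneg (sq_nonneg _)]]
      linarith
    exact_mod_cast h
  constructor
  · by_contra hno
    push Not at hno
    have h5' : ∀ χ ∈ R, F χ ∈ opts5 := fun χ hχ => (hopt χ hχ).2 fun h => hno χ (by
      rw [hM χ hχ, show 55 = 11 * 5 from rfl]; exact Nat.mul_dvd_mul_left 11 h)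
    have h := reach_of F opts5 (by decide) R 450 15 5 130 h5' s1 s2 s3 s4
    rw [not_reach_five] at h
    exact Bool.false_ne_true h
  · by_contra hno
    push Not at hno
    have h3' : ∀ χ ∈ R, F χ ∈ opts3 := fun χ hχ => (hopt χ hχ).1 fun h => hno χ (by
      rw [hM χ hχ, show 33 = 11 * 3 from rfl]; exact Nat.mul_dvd_mul_left 11 h)
    have h := reach_of F opts3 (by decide) R 450 15 5 130 h3' s1 s2 s3 s4
    rw [not_reach_three] at h
    exact Bool.false_ne_true h

end CfsgLib.DegM12
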