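import Cfsg.Agent.Lib.DegM12.Degrees
import Cfsg.Agent.Lib.M12Order.Shapes
import Cfsg.Agent.Lib.M12Order.Five
import Cfsg.Agent.Lib.Golay.Simple
import Cfsg.Prelude.Def_DegreeGraph

/-!
The degree graph of `M₁₂`: `11` is a vertex, joined to `5` and to `3`.
-/

set_option autoImplicit false
set_option linter.style.haveILetI false

namespace CfsgLib.DegM12

theorem degree_facts_M12 : 11 ∈ Cfsg.degreePrimes ↥Cfsg.Spor.M12 ∧
    (Cfsg.degreeGraph ↥Cfsg.Spor.M12).Adj 5 11 ∧ (Cfsg.degreeGraph ↥Cfsg.Spor.M12).Adj 3 11 := by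
  classical
  haveI := CfsgLib.Golay.isSimple_M12
  haveI : Fintype ↥Cfsg.Spor.M12 := Fintype.ofFinite _
  have hG := CfsgLib.Golay.card_M12
  obtain ⟨K, hW, hL, h5⟩ := M12Order.exists_census (G := ↥Cfsg.Spor.M12) hG
  have h11 : ∀ z : ↥Cfsg.Spor.M12, orderOf z = 11 →
      Nat.card ↥(Subgroup.centralizer ({z} : Set ↥Cfsg.Spor.M12)) = 11 :=
    fun z hz => (M12Order.eleven_data hG hz).1
  haveI : Fact (Nat.Prime 5) := ⟨by norm_num⟩
  obtain ⟨y, hy⟩ := exists_prime_orderOf_dvd_card' (G := ↥Cfsg.Spor.M12) 5 (by rw [hG]; norm_num)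
  obtain ⟨s, hs, hc, -⟩ := M12Order.exists_invol_ten hy (h5 y hy).1 (h5 y hy).2
  obtain ⟨⟨a, ha⟩, b, hb⟩ := exists_degrees hG K hW hL h5 h11 hy hs hc
  exact ⟨⟨by norm_num, _, ⟨a, rfl⟩, (show (11 : ℕ) ∣ 55 by norm_num).trans ha⟩,
    ⟨by norm_num, by norm_num, by norm_num, _, ⟨a, rfl⟩, ha⟩,
    ⟨by norm_num, by norm_num, by norm_num, _, ⟨b, rfl⟩, hb⟩⟩

end CfsgLib.DegM12
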