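import Cfsg.Agent.Lib.M12Order.Eleven
import Cfsg.Agent.Lib.SmallSimple.Common

/-!
There is no simple group of order `31680 = 2 ^ 6 * 3 ^ 2 * 5 * 11`: the normaliser of a Sylow `11`-subgroup
would have order `220` and centralise an involution `z`; either `C(z)` has index `12`, which is impossible
as `z` commutes with an element of order `11`, or `C(z)` has order `220`, which leaves no place for a central
involution of a Sylow `2`-subgroup.
-/

set_option autoImplicit false

namespace CfsgLib.DegM12

open Subgroup MulAction CfsgLib.SmallOrder CfsgLib.M12Order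

universe u

/-- The size of a conjugacy class is the index of the centraliser. -/
theorem card_isConj_eq_index {G : Type u} [Group G] (x : G) :
    Nat.card {g : G // IsConj x g} = (centralizer ({x} : Set G)).index := by
  symm
  let F : G ⧸ centralizer ({x} : Set G) → {g : G // IsConj x g} :=
    Quotient.lift (fun a => ⟨a * x * a⁻¹, isConj_iff.2 ⟨a, rfl⟩⟩) (by
      intro a b h
      have h1 : a⁻¹ * b ∈ centralizer ({x} : Set G) := QuotientGroup.leftRel_apply.1 h
      rw [mem_centralizer_singleton_iff] at h1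
      refine Subtype.ext ?_
      change a * x * a⁻¹ = b * x * b⁻¹
      calc a * x * a⁻¹ = a * (x * (a⁻¹ * b)) * b⁻¹ := by group
        _ = a * ((a⁻¹ * b) * x) * b⁻¹ := by rw [h1]
        _ = b * x * b⁻¹ := by group)
  refine Nat.card_eq_of_bijective F ⟨?_, ?_⟩
  · rintro ⟨a⟩ ⟨b⟩ h
    have h1 : a * x * a⁻¹ = b * x * b⁻¹ := congrArg Subtype.val h
    refine Quotient.sound (QuotientGroup.leftRel_apply.2 ?_)
    rw [mem_centralizer_singleton_iff]
    calc a⁻¹ * b * x = a⁻¹ * (b * x * b⁻¹) * b := by group
      _ = a⁻¹ * (a * x * a⁻¹) * b := by rw [h1]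
      _ = x * (a⁻¹ * b) := by group
  · rintro ⟨g, hg⟩
    obtain ⟨a, rfl⟩ := isConj_iff.1 hg
    exact ⟨QuotientGroup.mk a, rfl⟩

section

variable {G : Type u} [Group G] [Finite G] [IsSimpleGroup G] [Fact (Nat.Prime 11)] [Fact (Nat.Prime 2)]

/-- An involution whose centraliser has index `12` does not centralise a Sylow `11`-subgroup. -/
theorem index_centralizer_ne_twelve (hG : ¬ IsMulCommutative G) (P : Sylow 11 G)
    (hP : Nat.card ↥(P : Subgroup G) = 11) {z : G} (hzo : orderOf z = 2)
    (hzC : z ∈ centralizer ((P : Subgroup G) : Set G))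
    (huniq : ∀ h ∈ centralizer ((P : Subgroup G) : Set G), orderOf h = 2 → h = z)
    (hidx : (centralizer ({z} : Set G)).index = 12) : False := by
  classical
  have hone : Nat.card {h : G // IsConj z h ∧ h ∈ centralizer ((P : Subgroup G) : Set G)} = 1 := by
    refine Nat.card_eq_one_iff_unique.2 ⟨⟨fun a b => Subtype.ext ?_⟩, ⟨⟨z, IsConj.refl _, hzC⟩⟩⟩
    have hord : ∀ h, IsConj z h → orderOf h = 2 := by
      intro h hh
      obtain ⟨x, rfl⟩ := isConj_iff.1 hh
      rw [show x * z * x⁻¹ = MulAut.conj x z by simp, MulEquiv.orderOf_eq, hzo]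
    rw [huniq a a.2.2 (hord a a.2.1), huniq b b.2.2 (hord b b.2.1)]
  have hsplit : Nat.card {h : G // IsConj z h} = 1 + Nat.card (Outside P z) := by
    rw [← Nat.card_congr (Equiv.sumCompl fun x : {h : G // IsConj z h} =>
      x.1 ∈ centralizer ((P : Subgroup G) : Set G)), Nat.card_sum]
    congr 1
    · rw [← hone]
      exact Nat.card_congr (Equiv.subtypeSubtypeEquivSubtypeInter (fun h => IsConj z h)
        (fun h => h ∈ centralizer ((P : Subgroup G) : Set G)))
    · exact Nat.card_congr (Equiv.subtypeSubtypeEquivSubtypeInter (fun h => IsConj z h)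
        (fun h => h ∉ centralizer ((P : Subgroup G) : Set G)))
  rw [card_isConj_eq_index, hidx] at hsplit
  have horb := card_orbits_outside P hP z
  have hcard : Nat.card (MulAction.orbitRel.Quotient ↥(P : Subgroup G) (Outside P z)) = 1 := by omega
  have hss : Subsingleton (MulAction.orbitRel.Quotient ↥(P : Subgroup G) (Outside P z)) :=
    (Nat.card_eq_one_iff_unique.1 hcard).1
  have hφ : orbitHom P z ⟨z, hzC⟩ = 1 := Equiv.ext fun _ => hss.elim _ _
  have hz1 : z = 1 := by
    refine eq_one_of_commute_conjugates hG fun h hh => ?_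
    by_cases hhC : h ∈ centralizer ((P : Subgroup G) : Set G)
    · have ho : orderOf h = 2 := by
        obtain ⟨x, rfl⟩ := isConj_iff.1 hh
        rw [show x * z * x⁻¹ = MulAut.conj x z by simp, MulEquiv.orderOf_eq, hzo]
      rw [huniq h hhC ho]
    · exact commute_of_orbitHom_eq_one P hP hzC (hzo ▸ pow_orderOf_eq_one z) (by norm_num) hφ ⟨h, hh, hhC⟩
  rw [hz1, orderOf_one] at hzo
  omega

/-- A Sylow `11`-subgroup with `144` conjugates is not centralised by a single involution. -/
theorem no_144_31680 (hG : Nat.card G = 31680) (P : Sylow 11 G) (hP : Nat.card ↥(P : Subgroup G) = 11)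
    (hn : Nat.card (Sylow 11 G) = 144)
    (hC : Nat.card ↥(centralizer ((P : Subgroup G) : Set G)) = 11 * 2)
    (hN : Nat.card ↥(normalizer ((P : Subgroup G) : Set G)) = 11 * 2 * 10) : False := by
  classical
  have hG' : ¬ IsMulCommutative G := not_comm_of_not_prime (by rw [hG]; norm_num)
  obtain ⟨S⟩ := exists_csplit P hP
  have hVc : Nat.card S.V = 2 := by
    have := S.card_centralizer
    rw [hC] at this
    omega
  obtain ⟨z', hz'⟩ := exists_prime_orderOf_dvd_card' (G := S.V) 2 (by rw [hVc])
  set z := (z' : G) with hzdef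
  have hzo : orderOf z = 2 := by rw [hzdef, orderOf_coe]; exact hz'
  have hzC : z ∈ centralizer ((P : Subgroup G) : Set G) := S.v_mem_centralizer z'.2
  have huniq : ∀ h ∈ centralizer ((P : Subgroup G) : Set G), orderOf h = 2 → h = z := by
    intro h hh ho
    have hV : h ∈ S.V := S.mem_V_iff.2 ⟨hh, orderOf_dvd_iff_pow_eq_one.1 (by rw [hVc, ho])⟩
    have hz1 : z' ≠ 1 := fun e => by rw [e, orderOf_one] at hz'; omega
    have hh1 : (⟨h, hV⟩ : S.V) ≠ 1 := fun e => by
      rw [show h = 1 from congrArg Subtype.val e, orderOf_one] at ho; omega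
    obtain ⟨y, hy⟩ := (Nat.card_eq_two_iff' (1 : S.V)).1 hVc
    exact congrArg Subtype.val ((hy.2 _ hh1).trans (hy.2 _ hz1).symm)
  set N := normalizer ((P : Subgroup G) : Set G) with hNdef
  have hNz : N ≤ centralizer ({z} : Set G) := by
    intro v hv
    have h1 := huniq (v * z * v⁻¹) ((conj_mem_centralizer_iff P hv).2 hzC)
      (by rw [show v * z * v⁻¹ = MulAut.conj v z by simp, MulEquiv.orderOf_eq, hzo])
    exact mem_centralizer_singleton_iff.2 (mul_inv_eq_iff_eq_mul.1 h1)
  set H := centralizer ({z} : Set G) with hHdef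
  have hPH : (P : Subgroup G) ≤ H := le_normalizer.trans hNz
  -- the Sylow `11`-subgroups of `C(z)`
  let Q : Sylow 11 H := P.subtype hPH
  have hQN : Nat.card ↥(normalizer ((Q : Subgroup H) : Set H)) = 220 := by
    have he : normalizer ((Q : Subgroup H) : Set H) = N.subgroupOf H := by
      ext x
      rw [Subgroup.mem_subgroupOf, hNdef, Subgroup.mem_normalizer_iff, Subgroup.mem_normalizer_iff]
      constructor
      · intro h y
        constructor
        · intro hy
          exact (h ⟨y, hPH hy⟩).1 hy
        · intro hy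
          have hyH : y ∈ H := by
            have := mul_mem (mul_mem (inv_mem x.2) (hPH hy)) x.2
            simpa [mul_assoc] using this
          exact (h ⟨y, hyH⟩).2 hy
      · intro h y
        exact h (y : G)
    rw [he, Nat.card_congr (subgroupOfEquivOfLe hNz).toEquiv, hN]
  have hmul := card_normalizer_mul Q
  rw [hQN] at hmul
  have hmod := card_sylow_modEq_one 11 H
  rw [Nat.ModEq] at hmod
  set m := Nat.card (Sylow 11 H) with hm
  have hHidx : m * H.index = 144 := by
    have := H.card_mul_index
    rw [← hmul, hG, mul_assoc] at this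
    omega
  have hm144 : m ≤ 144 := Nat.le_of_dvd (by norm_num) ⟨_, hHidx.symm⟩
  have hm3 : m = 1 ∨ m = 12 ∨ m = 144 :=
    (by decide : ∀ m < 145, 144 % m = 0 → m % 11 = 1 → m = 1 ∨ m = 12 ∨ m = 144) m (by omega)
      (Nat.mod_eq_zero_of_dvd ⟨_, hHidx.symm⟩) (by omega)
  rcases hm3 with hm1 | hm12 | hm144'
  · -- the centraliser of `z` is `N`
    have hH220 : Nat.card H = 220 := by rw [← hmul, hm1, mul_one]
    have hHN : H = N := (eq_of_le_of_card_ge hNz (by rw [hH220, hN])).symm
    obtain ⟨T, hzT⟩ := (IsPGroup.of_card (p := 2) (n := 1) (G := zpowers z)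
      (by rw [Nat.card_zpowers, hzo, pow_one])).exists_le_sylow
    have hT : Nat.card ↥(T : Subgroup G) = 2 ^ 6 :=
      card_sylow_eq (m := 495) (by rw [hG]; norm_num) (by norm_num) T
    have hzT' : z ∈ (T : Subgroup G) := hzT (mem_zpowers z)
    have hnt : Nontrivial ↥(T : Subgroup G) :=
      ⟨⟨⟨z, hzT'⟩, 1, fun h => by
        have : z = 1 := congrArg Subtype.val h
        rw [this, orderOf_one] at hzo; omega⟩⟩
    have hcen := T.2.center_nontrivial
    obtain ⟨j, hj, hjc⟩ := (T.2.to_subgroup (Subgroup.center ↥(T : Subgroup G))).nontrivial_iff_card.1 hcen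
    obtain ⟨⟨⟨w, hwT⟩, hwc⟩, hwo⟩ :=
      exists_prime_orderOf_dvd_card' (G := Subgroup.center ↥(T : Subgroup G)) 2 (by
        rw [hjc]; exact dvd_pow_self 2 (by omega))
    rw [orderOf_mk, orderOf_mk] at hwo
    have hwcomm : ∀ t ∈ (T : Subgroup G), t * w = w * t := fun t ht =>
      congrArg Subtype.val (Subgroup.mem_center_iff.1 hwc ⟨t, ht⟩)
    have hTw : (T : Subgroup G) ≤ centralizer ({w} : Set G) := fun t ht =>
      mem_centralizer_singleton_iff.2 (hwcomm t ht)
    have h64 : 64 ∣ Nat.card ↥(centralizer ({w} : Set G)) := by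
      have := card_dvd_of_le hTw
      rw [hT] at this
      exact this
    have hwN : w ∈ N := by
      rw [← hHN]
      exact mem_centralizer_singleton_iff.2 (hwcomm z hzT').symm
    have hwC : w ∉ centralizer ((P : Subgroup G) : Set G) := fun h => by
      rw [huniq w h hwo, ← hHdef, hH220] at h64
      norm_num at h64
    have hle := fixedBy_le_orbits P hP hwN hwC
    have horb := card_orbits P hP
    rw [hn] at horb
    have hcount := card_fixedBy_mul_card_class N w
    have hNidx : N.index = 144 := P.card_eq_index_normalizer.symm.trans hn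
    rw [card_isConj_eq_index, hNidx] at hcount
    set f := Nat.card (fixedBy (G ⧸ N) w) with hf
    set k := Nat.card {g : G // IsConj w g ∧ g ∈ N} with hk
    have hf1 : 1 ≤ f := by
      have : Nonempty (fixedBy (G ⧸ N) w) := ⟨⟨QuotientGroup.mk (1 : G), by
        rw [mem_fixedBy, Quotient.smul_mk, QuotientGroup.eq, smul_eq_mul, mul_one, mul_one]
        exact inv_mem hwN⟩⟩
      exact Nat.card_pos
    obtain ⟨r, hr⟩ := h64
    have hci := (centralizer ({w} : Set G)).card_mul_index
    rw [hr, hG] at hci
    -- `f * 31680 = 144 * k * |C(w)|`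
    have h16 : f * 495 = 144 * k * r := by
      have h1 : f * (64 * r * (centralizer ({w} : Set G)).index) = 144 * k * (64 * r) := by
        rw [← hcount]; ring
      rw [hci] at h1
      have h2 : f * 495 * 64 = 144 * k * r * 64 := by linarith
      exact Nat.eq_of_mul_eq_mul_right (by norm_num) h2
    have h16' : 16 ∣ f := by
      have : 16 ∣ f * 495 := ⟨9 * k * r, by rw [h16]; ring⟩
      omega
    omega
  · exact index_centralizer_ne_twelve hG' P hP hzo hzC huniq (by rw [hm12] at hHidx; change H.index = 12; omega)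
  · have hidx : H.index = 1 := by rw [hm144'] at hHidx; omega
    have hcen : z ∈ Subgroup.center G := Subgroup.mem_center_iff.2 fun a =>
      mem_centralizer_singleton_iff.1 (by
        change a ∈ H
        rw [Subgroup.index_eq_one.1 hidx]
        exact Subgroup.mem_top a)
    rw [center_eq_bot_of_not_comm hG', Subgroup.mem_bot] at hcen
    rw [hcen, orderOf_one] at hzo
    omega

end

/-- There is no simple group of order `31680`. -/
theorem card_ne_31680 (G : Type u) [Group G] [Finite G] [IsSimpleGroup G] : Nat.card G ≠ 31680 := by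
  intro hG
  have : Fact (Nat.Prime 11) := ⟨by norm_num⟩
  have : Fact (Nat.Prime 2) := ⟨Nat.prime_two⟩
  obtain ⟨P⟩ := (inferInstance : Nonempty (Sylow 11 G))
  have hP : Nat.card ↥(P : Subgroup G) = 11 := by
    simpa using card_sylow_eq (e := 1) (m := 2880) (by rw [hG]; norm_num) (by norm_num) P
  obtain ⟨n, c, e, hmem, hn, hC, hN⟩ := exists_option hG 2880 177 [(144, 2, 10)]
    (by norm_num) (by norm_num) (by norm_num) (by decide +kernel) P
  simp only [List.mem_cons, List.not_mem_nil, or_false, Prod.mk.injEq] at hmem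
  obtain ⟨rfl, rfl, rfl⟩ := hmem
  exact no_144_31680 hG P hP hn hC hN

end CfsgLib.DegM12
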