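import Cfsg.Agent.Lib.M12Order.Eleven

/-!
There is no simple group of order `47520 = 2 ^ 5 * 3 ^ 3 * 5 * 11`: the normaliser of a Sylow `11`-subgroup would
have order `330`, and an element of order three centralising it would commute with all its conjugates.
-/

set_option autoImplicit false

namespace CfsgLib.DegM12

open Subgroup CfsgLib.SmallOrder CfsgLib.M12Order

universe u

section

variable {G : Type u} [Group G] [Finite G] [IsSimpleGroup G] [Fact (Nat.Prime 11)]

/-- The part of the class of `g` outside the centraliser of `P` consists of `11 k` elements. -/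
theorem card_outside_le (hG : Nat.card G = 47520) (P : Sylow 11 G)
    (hP : Nat.card ↥(P : Subgroup G) = 11) (hn : Nat.card (Sylow 11 G) = 144) {q a m : ℕ} [Fact q.Prime]
    (hqm : 47520 = q ^ a * m) (hqm' : ¬ q ∣ m) (hq330 : ¬ q ^ a ∣ 330) {g : G} (hgo : orderOf g = q)
    (hgC : g ∈ centralizer ((P : Subgroup G) : Set G))
    (hNC : ∀ h ∈ normalizer ((P : Subgroup G) : Set G), orderOf h = q →
      h ∈ centralizer ((P : Subgroup G) : Set G))
    {b : ℕ} (hb : b ≤ 3)
    (hk : Nat.card {h : G // orderOf h = q ∧ h ∈ centralizer ((P : Subgroup G) : Set G)} ≤ b)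
    (hsame : ∀ h ∈ centralizer ((P : Subgroup G) : Set G), orderOf h = q →
      Nat.card ↥(centralizer ({h} : Set G)) = Nat.card ↥(centralizer ({g} : Set G))) :
    Nat.card (MulAction.orbitRel.Quotient ↥(P : Subgroup G) (Outside P g)) ≤ b := by
  classical
  have hG' : ¬ IsMulCommutative G := not_comm_of_not_prime (by rw [hG]; norm_num)
  have hqp := (Fact.out : q.Prime)
  set N := normalizer ((P : Subgroup G) : Set G) with hNdef
  set C := centralizer ((P : Subgroup G) : Set G) with hCdef
  have hCN : C ≤ N := centralizer_le_normalizer _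
  have hidx : N.index = 144 := P.card_eq_index_normalizer.symm.trans hn
  have hN330 : Nat.card N = 330 := by
    have := card_normalizer_mul P
    rw [hn, hG] at this
    rw [hNdef]
    omega
  have hNtop : N ≠ ⊤ := fun h => by rw [h, index_top] at hidx; omega
  have hg1 : g ≠ 1 := by rintro rfl; rw [orderOf_one] at hgo; exact hqp.ne_one hgo.symm
  have hbase : g • (QuotientGroup.mk (1 : G) : G ⧸ N) = QuotientGroup.mk (1 : G) := by
    rw [MulAction.Quotient.smul_mk, QuotientGroup.eq, smul_eq_mul, mul_one, mul_one]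
    exact inv_mem (hCN hgC)
  set f := Nat.card (MulAction.fixedBy (G ⧸ N) g) with hf
  have hflt : f < 144 := by
    rw [← hidx]
    refine lt_of_le_of_ne (Finite.card_subtype_le _) fun he => ?_
    have hF : MulAction.fixedBy (G ⧸ N) g = Set.univ := by
      refine Set.eq_of_subset_of_ncard_le (Set.subset_univ _) ?_ Set.finite_univ
      rw [Set.ncard_univ, ← Nat.card_coe_set_eq]
      exact (he.ge : N.index ≤ f)
    exact hg1 (toPermHom_injective hNtop (a₁ := g) (a₂ := 1) (by
      rw [map_one]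
      exact Equiv.ext fun c => (hF ▸ Set.mem_univ c : c ∈ MulAction.fixedBy (G ⧸ N) g)))
  have hfmod : f % 11 = 1 := by
    let F := {c : G ⧸ N // g • c = c}
    have hcomm : ∀ u ∈ (P : Subgroup G), u * g = g * u := fun u hu => mem_centralizer_iff.1 hgC u hu
    let _ : MulAction ↥(P : Subgroup G) F :=
      { smul := fun u c => ⟨(u : G) • c.1, by rw [← mul_smul, ← hcomm u u.2, mul_smul, c.2]⟩
        one_smul := fun c => Subtype.ext (one_smul G c.1)
        mul_smul := fun u v c => Subtype.ext (mul_smul (u : G) v c.1) }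
    have hfp : MulAction.fixedPoints ↥(P : Subgroup G) F = {⟨QuotientGroup.mk (1 : G), hbase⟩} := by
      ext c
      rw [MulAction.mem_fixedPoints, Set.mem_singleton_iff]
      constructor
      · intro h
        by_contra hne
        obtain ⟨⟨u, hu⟩, huo⟩ :=
          exists_prime_orderOf_dvd_card' (G := ↥(P : Subgroup G)) 11 (by rw [hP])
        rw [orderOf_mk] at huo
        have h1 := orbit_injective P hP (fun e => hne (Subtype.ext e)) hu
          (congrArg Subtype.val (h ⟨u, hu⟩))
        rw [h1, orderOf_one] at huo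
        omega
      · rintro rfl ⟨u, hu⟩
        refine Subtype.ext ?_
        change (QuotientGroup.mk (u * 1) : G ⧸ N) = QuotientGroup.mk (1 : G)
        rw [QuotientGroup.eq, mul_one, mul_one]
        exact inv_mem (le_normalizer hu)
    have h11 := P.2.card_modEq_card_fixedPoints F
    rw [hfp, Nat.card_coe_set_eq, Set.ncard_singleton] at h11
    change f ≡ 1 [MOD 11] at h11
    exact h11
  set k := Nat.card {h : G // IsConj g h ∧ h ∈ N} with hkdef
  have hcount : f * Nat.card {h : G // IsConj g h} = 144 * k := by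
    rw [hkdef, ← hidx, hf]
    exact card_fixedBy_mul_card_class N g
  have hord : ∀ h, IsConj g h → orderOf h = q := by
    intro h hh
    obtain ⟨x, rfl⟩ := isConj_iff.1 hh
    rw [show x * g * x⁻¹ = MulAut.conj x g by simp, MulEquiv.orderOf_eq, hgo]
  have hiff : ∀ h, IsConj g h → (h ∈ N ↔ h ∈ C) := fun h hh =>
    ⟨fun hN => hNC h hN (hord h hh), fun hC => hCN hC⟩
  have hk1 : 1 ≤ k := by
    have : Nonempty {h : G // IsConj g h ∧ h ∈ N} := ⟨⟨g, IsConj.refl _, hCN hgC⟩⟩
    exact Nat.card_pos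
  have hkb : k ≤ b := by
    refine le_trans ?_ hk
    refine Nat.card_le_card_of_injective
      (fun h : {h : G // IsConj g h ∧ h ∈ N} => (⟨h.1, hord _ h.2.1, (hiff _ h.2.1).1 h.2.2⟩ :
        {h : G // orderOf h = q ∧ h ∈ C})) ?_
    intro h₁ h₂ he
    exact Subtype.ext (congrArg (fun x : {h : G // orderOf h = q ∧ h ∈ C} => x.1) he)
  have hf12 : f = 1 ∨ f = 12 :=
    (by decide : ∀ f < 144, f % 11 = 1 → ∀ k ∈ [1, 2, 3], 144 * k % f = 0 → f = 1 ∨ f = 12) f hflt hfmod
      k (by simp only [List.mem_cons, List.not_mem_nil, or_false]; omega)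
      (Nat.mod_eq_zero_of_dvd ⟨_, hcount.symm⟩)
  rcases hf12 with hf1 | hf12
  · exfalso
    apply hq330
    have hle : centralizer ({g} : Set G) ≤ N := by
      intro x hx
      rw [mem_centralizer_singleton_iff] at hx
      have hmem : x • (QuotientGroup.mk (1 : G) : G ⧸ N) ∈ MulAction.fixedBy (G ⧸ N) g := by
        rw [MulAction.mem_fixedBy, ← mul_smul, ← hx, mul_smul, hbase]
      have hss : Subsingleton ↥(MulAction.fixedBy (G ⧸ N) g) := (Nat.card_eq_one_iff_unique.1 hf1).1
      have he := congrArg Subtype.val (hss.elim ⟨_, hmem⟩ ⟨QuotientGroup.mk (1 : G), hbase⟩)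
      change x • (QuotientGroup.mk (1 : G) : G ⧸ N) = QuotientGroup.mk (1 : G) at he
      rw [MulAction.Quotient.smul_mk, QuotientGroup.eq, smul_eq_mul, mul_one, mul_one, inv_mem_iff] at he
      exact he
    obtain ⟨T, hgT⟩ := (IsPGroup.of_card (p := q) (n := 1) (G := zpowers g)
      (by rw [Nat.card_zpowers, hgo, pow_one])).exists_le_sylow
    have hT : Nat.card ↥(T : Subgroup G) = q ^ a := card_sylow_eq (by rw [hG, hqm]) hqm' T
    have hgT' : g ∈ (T : Subgroup G) := hgT (mem_zpowers g)
    have hnt : Nontrivial ↥(T : Subgroup G) :=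
      ⟨⟨⟨g, hgT'⟩, 1, fun h => hg1 (congrArg Subtype.val h)⟩⟩
    have hz := T.2.center_nontrivial
    obtain ⟨j, hj, hjc⟩ := (T.2.to_subgroup (Subgroup.center ↥(T : Subgroup G))).nontrivial_iff_card.1 hz
    obtain ⟨⟨⟨w, hwT⟩, hwc⟩, hwo⟩ :=
      exists_prime_orderOf_dvd_card' (G := Subgroup.center ↥(T : Subgroup G)) q (by
        rw [hjc]; exact dvd_pow_self q (by omega))
    rw [orderOf_mk, orderOf_mk] at hwo
    have hwcomm : ∀ t ∈ (T : Subgroup G), t * w = w * t := fun t ht =>
      congrArg Subtype.val (Subgroup.mem_center_iff.1 hwc ⟨t, ht⟩)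
    have hwC : w ∈ C := hNC w (hle (mem_centralizer_singleton_iff.2 (hwcomm g hgT').symm)) hwo
    rw [← hT, ← hN330]
    refine (card_dvd_of_le (fun t ht => mem_centralizer_singleton_iff.2 (hwcomm t ht))).trans ?_
    rw [hsame w hwC hwo]
    exact card_dvd_of_le hle
  · have hsplit : Nat.card {h : G // IsConj g h} = k + Nat.card (Outside P g) := by
      rw [hkdef, ← Nat.card_congr (Equiv.sumCompl fun x : {h : G // IsConj g h} => x.1 ∈ C), Nat.card_sum]
      congr 1
      · exact Nat.card_congr ((Equiv.subtypeSubtypeEquivSubtypeInter (fun h => IsConj g h)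
          (fun h => h ∈ C)).trans
          (Equiv.subtypeEquivRight fun h => and_congr_right fun hh => (hiff h hh).symm))
      · exact Nat.card_congr (Equiv.subtypeSubtypeEquivSubtypeInter (fun h => IsConj g h)
          (fun h => h ∉ C))
    have horb := card_orbits_outside P hP g
    rw [hf12, hsplit, ← horb] at hcount
    omega

/-- A Sylow `11`-subgroup is not centralised by an element of order three when it has `144` conjugates. -/
theorem no_144_47520 (hG : Nat.card G = 47520) (P : Sylow 11 G) (hP : Nat.card ↥(P : Subgroup G) = 11)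
    (hn : Nat.card (Sylow 11 G) = 144) {c e : ℕ} (hce : (c = 15 ∧ e = 2) ∨ (c = 6 ∧ e = 5) ∨ (c = 3 ∧ e = 10))
    (hC : Nat.card ↥(centralizer ((P : Subgroup G) : Set G)) = 11 * c)
    (hN : Nat.card ↥(normalizer ((P : Subgroup G) : Set G)) = 11 * c * e) : False := by
  classical
  have hG' : ¬ IsMulCommutative G := not_comm_of_not_prime (by rw [hG]; norm_num)
  have : Fact (Nat.Prime 3) := ⟨Nat.prime_three⟩
  obtain ⟨S⟩ := exists_csplit P hP
  have hVc : Nat.card S.V = c := by
    have := S.card_centralizer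
    rw [hC] at this
    omega
  have hinV : ∀ h ∈ centralizer ((P : Subgroup G) : Set G), orderOf h ∣ c → h ∈ S.V := fun h hh hd =>
    S.mem_V_iff.2 ⟨hh, orderOf_dvd_iff_pow_eq_one.1 (hVc.symm ▸ hd)⟩
  have h3c : 3 ∣ c := by rcases hce with ⟨rfl, -⟩ | ⟨rfl, -⟩ | ⟨rfl, -⟩ <;> norm_num
  obtain ⟨x, hx⟩ := exists_prime_orderOf_dvd_card' (G := S.V) 3 (by rw [hVc]; exact h3c)
  have hxo : orderOf (x : G) = 3 := by rw [orderOf_coe]; exact hx
  have hxC := S.v_mem_centralizer x.2
  -- `V` has only one subgroup of order three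
  have hm3 : ¬ 3 ∣ c / 3 := by rcases hce with ⟨rfl, -⟩ | ⟨rfl, -⟩ | ⟨rfl, -⟩ <;> norm_num
  have hV3 : Nat.card S.V = 3 * (c / 3) := by rw [hVc, Nat.mul_div_cancel' h3c]
  have huniq : Nat.card (Sylow 3 S.V) = 1 := by
    obtain ⟨Q⟩ := (inferInstance : Nonempty (Sylow 3 S.V))
    have hQ : Nat.card ↥(Q : Subgroup S.V) = 3 := by
      simpa using card_sylow_eq (e := 1) (m := c / 3) (by rw [pow_one]; exact hV3) hm3 Q
    have hd : Nat.card (Sylow 3 S.V) ∣ c / 3 := by
      have hmul := card_normalizer_mul Q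
      obtain ⟨j, hj⟩ := card_dvd_of_le (le_normalizer (H := (Q : Subgroup S.V)))
      rw [hj, hQ, hV3, mul_assoc] at hmul
      exact ⟨j, (Nat.eq_of_mul_eq_mul_left (by norm_num) hmul).symm.trans (mul_comm _ _)⟩
    have h1 := card_sylow_modEq_one 3 S.V
    rw [Nat.ModEq] at h1
    have hle : Nat.card (Sylow 3 S.V) ≤ 5 := by
      refine (Nat.le_of_dvd ?_ hd).trans ?_ <;>
        rcases hce with ⟨rfl, -⟩ | ⟨rfl, -⟩ | ⟨rfl, -⟩ <;> norm_num
    have hne4 : Nat.card (Sylow 3 S.V) ≠ 4 := by
      intro h4; rw [h4] at hd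
      rcases hce with ⟨rfl, -⟩ | ⟨rfl, -⟩ | ⟨rfl, -⟩ <;> norm_num at hd
    omega
  have hs : ∀ y : S.V, orderOf y = 3 → y ∈ zpowers x := by
    intro y hy
    have hss : Subsingleton (Sylow 3 S.V) := (Nat.card_eq_one_iff_unique.1 huniq).1
    obtain ⟨Qy, hQy⟩ := exists_sylow_eq hV3 hm3 (S := zpowers y) (by rw [Nat.card_zpowers, hy])
    obtain ⟨Qx, hQx⟩ := exists_sylow_eq hV3 hm3 (S := zpowers x) (by rw [Nat.card_zpowers, hx])
    rw [← hQx, ← hss.elim Qy Qx, hQy]
    exact mem_zpowers y
  have hco : Nat.Coprime e 3 := by rcases hce with ⟨-, rfl⟩ | ⟨-, rfl⟩ | ⟨-, rfl⟩ <;> norm_num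
  have htwo : ∀ h ∈ centralizer ((P : Subgroup G) : Set G), orderOf h = 3 →
      h = (x : G) ∨ h = (x : G)⁻¹ := by
    intro h hh ho
    have hy := hs ⟨h, hinV h hh (ho ▸ h3c)⟩ (by rw [orderOf_mk]; exact ho)
    obtain ⟨k, hk⟩ := mem_powers_iff_mem_zpowers.2 hy
    have hk' : (x : G) ^ k = h := by simpa using congrArg Subtype.val hk
    rw [← pow_mod_orderOf, hxo] at hk'
    have hlt : k % 3 < 3 := Nat.mod_lt _ (by norm_num)
    interval_cases hr : k % 3
    · rw [pow_zero] at hk'; rw [← hk', orderOf_one] at ho; omega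
    · exact Or.inl (by rw [← hk', pow_one])
    · refine Or.inr (eq_inv_of_mul_eq_one_left ?_)
      rw [← hk', ← pow_succ, show 2 + 1 = orderOf (x : G) by rw [hxo], pow_orderOf_eq_one]
  have hle := card_outside_le hG P hP hn (q := 3) (a := 3) (m := 1760) (by norm_num) (by norm_num)
    (by norm_num) hxo hxC
    (fun h hh ho => mem_centralizer_of_coprime hC hN hh (ho.symm ▸ hco)) (b := 2) (by norm_num)
    (by
      rw [show Nat.card {h : G // orderOf h = 3 ∧ h ∈ centralizer ((P : Subgroup G) : Set G)} =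
        Set.ncard {h : G | orderOf h = 3 ∧ h ∈ centralizer ((P : Subgroup G) : Set G)} from
        Nat.card_coe_set_eq _]
      refine (Set.ncard_le_ncard (t := {(x : G), (x : G)⁻¹}) (fun h hh => ?_) (Set.toFinite _)).trans ?_
      · simpa using htwo h hh.2 hh.1
      · exact (Set.ncard_insert_le _ _).trans (by rw [Set.ncard_singleton]))
    (fun h hh ho => by
      rcases htwo h hh ho with rfl | rfl
      · rfl
      · exact card_centralizer_inv _)
  have hφ : orbitHom P (x : G) ⟨x, hxC⟩ = 1 := by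
    set φ := orbitHom P (x : G) ⟨x, hxC⟩ with hφdef
    have h1 : orderOf φ ∣ 3 := by
      refine (orderOf_map_dvd _ _).trans ?_
      rw [orderOf_mk, hxo]
    have h2 : orderOf φ ∣ 2 := by
      refine (orderOf_dvd_natCard φ).trans ?_
      rw [Nat.card_perm]
      exact Nat.factorial_dvd_factorial hle
    exact orderOf_eq_one_iff.1 (Nat.eq_one_of_dvd_coprimes (by norm_num) h1 h2)
  have hx1 : (x : G) = 1 := by
    refine eq_one_of_commute_conjugates hG' fun h hh => ?_
    by_cases hhC : h ∈ centralizer ((P : Subgroup G) : Set G)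
    · have ho : orderOf h = 3 := by
        obtain ⟨a, rfl⟩ := isConj_iff.1 hh
        rw [show a * (x : G) * a⁻¹ = MulAut.conj a (x : G) by simp, MulEquiv.orderOf_eq, hxo]
      rcases htwo h hhC ho with rfl | rfl
      · exact Commute.refl _
      · exact (Commute.refl _).inv_right
    · exact commute_of_orbitHom_eq_one P hP hxC (hxo ▸ pow_orderOf_eq_one (x : G)) (by norm_num) hφ
        ⟨h, hh, hhC⟩
  rw [hx1, orderOf_one] at hxo
  omega

end

/-- There is no simple group of order `47520`. -/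
theorem card_ne_47520 (G : Type u) [Group G] [Finite G] [IsSimpleGroup G] : Nat.card G ≠ 47520 := by
  intro hG
  have : Fact (Nat.Prime 11) := ⟨by norm_num⟩
  obtain ⟨P⟩ := (inferInstance : Nonempty (Sylow 11 G))
  have hP : Nat.card ↥(P : Subgroup G) = 11 := by
    simpa using card_sylow_eq (e := 1) (m := 4320) (by rw [hG]; norm_num) (by norm_num) P
  obtain ⟨n, c, e, hmem, hn, hC, hN⟩ := exists_option hG 4320 217 [(144, 15, 2), (144, 6, 5), (144, 3, 10)]
    (by norm_num) (by norm_num) (by norm_num) (by decide +kernel) P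
  simp only [List.mem_cons, List.not_mem_nil, or_false, Prod.mk.injEq] at hmem
  rcases hmem with ⟨rfl, rfl, rfl⟩ | ⟨rfl, rfl, rfl⟩ | ⟨rfl, rfl, rfl⟩
  · exact no_144_47520 hG P hP hn (Or.inl ⟨rfl, rfl⟩) hC hN
  · exact no_144_47520 hG P hP hn (Or.inr (Or.inl ⟨rfl, rfl⟩)) hC hN
  · exact no_144_47520 hG P hP hn (Or.inr (Or.inr ⟨rfl, rfl⟩)) hC hN

end CfsgLib.DegM12
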