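import Cfsg.Agent.Lib.SmallOrder.AutoFast
import Cfsg.Agent.Lib.DegM12.Order31680
import Cfsg.Agent.Lib.DegM12.Order47520

/-!
The orders of the simple groups whose order divides `95040` and is divisible by `11`.
-/

set_option autoImplicit false
set_option maxRecDepth 100000

namespace CfsgLib.DegM12

open CfsgLib.SmallOrder

universe u

/-- The exceptional divisors of `8640`: for the others the automatic criterion applies. -/
theorem divisors_check :
    (List.range 8641).all (fun d => !Nat.beq (8640 % d) 0 ||
      ([1, 60, 720, 1440, 2880, 4320, 8640].any (fun x => Nat.beq x d) || orderExcludedRev (11 * d))) =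
        true := by
  decide +kernel

theorem card_ne_15840 {G : Type u} [Group G] [Finite G] [IsSimpleGroup G] : Nat.card G ≠ 15840 := by
  intro hG
  have : Fact (Nat.Prime 11) := ⟨by norm_num⟩
  obtain ⟨P⟩ := (inferInstance : Nonempty (Sylow 11 G))
  obtain ⟨n, c, e, hmem, -⟩ := exists_option hG 1440 125 [] (by norm_num) (by norm_num) (by norm_num)
    (by decide +kernel : _ = true) P
  simp at hmem

/-- The orders of the simple groups whose order divides `95040` and is a proper multiple of `11`. -/
theorem simple_orders {T : Type u} [Group T] [Finite T] [IsSimpleGroup T] (hd : Nat.card T ∣ 95040)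
    (h11 : 11 ∣ Nat.card T) (h : 11 < Nat.card T) :
    Nat.card T = 660 ∨ Nat.card T = 7920 ∨ Nat.card T = 95040 := by
  obtain ⟨d, hd'⟩ := h11
  have hdd : d ∣ 8640 := by
    rw [hd'] at hd
    exact Nat.dvd_of_mul_dvd_mul_left (by norm_num) (hd : 11 * d ∣ 11 * 8640)
  have hG : ¬ IsMulCommutative T := not_comm_of_not_prime (by
    rw [hd']; exact Nat.not_prime_mul (by norm_num) (by omega))
  have hall := List.all_eq_true.1 divisors_check d
    (List.mem_range.2 (Nat.lt_succ_of_le (Nat.le_of_dvd (by norm_num) hdd)))
  simp only [Nat.mod_eq_zero_of_dvd hdd, Bool.or_eq_true, Bool.not_eq_true', List.any_eq_true,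
    List.mem_cons, List.not_mem_nil, or_false, Nat.beq_eq] at hall
  rcases hall with hall | hall | hall
  · exact Bool.noConfusion hall
  · obtain ⟨x, hx, rfl⟩ := hall
    rcases hx with rfl | rfl | rfl | rfl | rfl | rfl | rfl
    · omega
    · left; omega
    · right; left; omega
    · exact absurd hd' card_ne_15840
    · exact absurd hd' (card_ne_31680 T)
    · exact absurd hd' (card_ne_47520 T)
    · right; right; omega
  · exact absurd hd' (card_ne_of_orderExcluded hG (by rwa [← orderExcludedRev_eq]))

end CfsgLib.DegM12
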