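import Cfsg.Agent.Lib.DegM12.Structure
import Cfsg.Agent.Lib.Sporadic.M11Order.Table
import Mathlib.GroupTheory.SpecificGroups.Alternating
import Mathlib.GroupTheory.NoncommPiCoprod

/-!
A group `R × M₁₁` with `|R| = 12` and a degree divisible by `33` has `R ≅ A₄`.
-/

set_option autoImplicit false
set_option linter.style.haveILetI false

namespace CfsgLib.DegM12

open Subgroup CfsgLib

universe u

/-- Restriction to a supplement of a central subgroup keeps irreducibility. -/
theorem isIrr_restrict_central {G : Type u} [Group G] [Finite G] (χ : Cfsg.IrrCharacter G) (S H : Subgroup G)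
    [S.Normal] (hS : S ≤ center G) (hSH : S ⊔ H = ⊤) :
    Cfsg.IsIrrCharacter H fun h : H => (χ : G → ℂ) h := by
  obtain ⟨n, ρ, hρ, he⟩ := χ.2
  haveI := hρ
  refine ⟨n, ρ.comp H.subtype, ?_, funext fun h => by rw [← he]; rfl⟩
  have hscal : ∀ z ∈ S, ∃ c : ℂ, ρ z = c • 1 := fun z hz =>
    CfsgLib.Char.exists_scalar_of_commute ρ (ρ z) fun g => by
      rw [← map_mul, ← map_mul, Subgroup.mem_center_iff.mp (hS hz) g]
  have hinv : ∀ (W : Subrepresentation (ρ.comp H.subtype)) (g : G), ∀ v ∈ W.toSubmodule, ρ g v ∈ W.toSubmodule := by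
    intro W g v hv
    obtain ⟨z, hz, h, hh, rfl⟩ :=
      (Subgroup.mem_sup_of_normal_left (t := H)).1 (hSH ▸ Subgroup.mem_top g : g ∈ S ⊔ H)
    obtain ⟨c, hc⟩ := hscal z hz
    rw [map_mul, Module.End.mul_apply, hc, LinearMap.smul_apply, Module.End.one_apply]
    exact W.toSubmodule.smul_mem c (W.apply_mem_toSubmodule ⟨h, hh⟩ hv)
  let e : Subrepresentation ρ ≃o Subrepresentation (ρ.comp H.subtype) :=
    { toFun := fun W => ⟨W.toSubmodule, fun g v hv => W.apply_mem_toSubmodule (g : G) hv⟩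
      invFun := fun W => ⟨W.toSubmodule, fun g v hv => hinv W g v hv⟩
      left_inv := fun W => rfl
      right_inv := fun W => rfl
      map_rel_iff' := Iff.rfl }
  exact e.isSimpleOrder_iff.1 hρ

/-- A degree of a group of order 7920 divisible by 11 is prime to 3. -/
theorem not_three_dvd_degree {L : Type u} [Group L] [Fintype L] [IsSimpleGroup L] (hL : Nat.card L = 7920)
    (φ : Cfsg.IrrCharacter L) : ¬ 33 ∣ Cfsg.charDegree (φ : L → ℂ) := by
  classical
  obtain ⟨T⟩ := M11Order.exists_table (G := L) hL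
  have hmem : φ = Char.principalIrr ∨ φ = T.a1 ∨ φ = T.a2 ∨ φ = T.a3 ∨ φ = T.b ∨ φ = T.e1 ∨ φ = T.e2 ∨
      φ = T.g ∨ φ = T.h ∨ φ = T.i := by
    by_contra hcon
    push Not at hcon
    obtain ⟨h0, h1, h2, h3, h4, h5, h6, h7, h8, h9⟩ := hcon
    have h := T.sum_eq fun χ => if χ = φ then 1 else 0
    rw [Finset.sum_ite_eq' Finset.univ φ fun _ => (1 : ℂ), if_pos (Finset.mem_univ φ), if_neg h0.symm,
      if_neg h1.symm, if_neg h2.symm, if_neg h3.symm, if_neg h4.symm, if_neg h5.symm, if_neg h6.symm,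
      if_neg h7.symm, if_neg h8.symm, if_neg h9.symm] at h
    norm_num at h
  change ¬ 33 ∣ Char.degree φ.1
  rcases hmem with rfl | rfl | rfl | rfl | rfl | rfl | rfl | rfl | rfl | rfl <;>
    simp only [M11Order.principal_degree, T.ha1, T.ha2, T.ha3, T.hb, T.he1, T.he2, T.hg, T.hh, T.hi] <;>
    norm_num

theorem alt_four_of_sylow {R : Type u} [Group R] [Finite R] (hR : Nat.card R = 12) [Fact (Nat.Prime 3)]
    (hn : Nat.card (Sylow 3 R) ≠ 1) : Nonempty (R ≃* alternatingGroup (Fin 4)) := by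
  classical
  have h3 : ∀ Q : Sylow 3 R, Nat.card (Q : Subgroup R) = 3 := fun Q =>
    CfsgLib.SmallSimple.sylow_card (r := 3) (m := 4) (by rw [hR]) (by norm_num) Q
  have h4 : Nat.card (Sylow 3 R) = 4 := by
    obtain ⟨Q⟩ := (inferInstance : Nonempty (Sylow 3 R))
    have h1 := card_sylow_modEq_one 3 R
    have h2 : Nat.card (Sylow 3 R) ∣ 4 := by
      have h5 := (Q : Subgroup R).card_mul_index
      rw [h3, hR] at h5
      exact (show (Q : Subgroup R).index = 4 by omega) ▸ Q.card_dvd_index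
    have := Nat.le_of_dvd (by norm_num) h2
    unfold Nat.ModEq at h1
    omega
  let f : R →* Equiv.Perm (Sylow 3 R) := MulAction.toPermHom R (Sylow 3 R)
  have hnorm : ∀ Q : Sylow 3 R, normalizer ((Q : Subgroup R) : Set R) = (Q : Subgroup R) := fun Q => by
    refine (eq_of_le_of_card_ge le_normalizer ?_).symm
    have h5 := (normalizer ((Q : Subgroup R) : Set R)).card_mul_index
    rw [show (normalizer ((Q : Subgroup R) : Set R)).index = 4 from Q.card_eq_index_normalizer.symm.trans h4,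
      hR] at h5
    rw [h3]
    omega
  have hinj : Function.Injective f := by
    rw [← MonoidHom.ker_eq_bot_iff, eq_bot_iff]
    intro x hx
    have hmem : ∀ Q : Sylow 3 R, x ∈ (Q : Subgroup R) := fun Q => by
      rw [← hnorm Q]
      exact Sylow.smul_eq_iff_mem_normalizer.1 (Equiv.ext_iff.1 (MonoidHom.mem_ker.1 hx) Q)
    haveI : Nontrivial (Sylow 3 R) := Finite.one_lt_card_iff_nontrivial.1 (by omega)
    obtain ⟨Q, Q', hQ⟩ := exists_pair_ne (Sylow 3 R)
    by_contra hx1
    rw [Subgroup.mem_bot] at hx1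
    have key : ∀ Q : Sylow 3 R, zpowers x = (Q : Subgroup R) := fun Q => by
      refine eq_of_le_of_card_ge (zpowers_le.2 (hmem Q)) ?_
      have h7 := Subgroup.orderOf_dvd_natCard _ (hmem Q)
      rw [h3] at h7
      rw [h3, Nat.card_zpowers]
      rcases (Nat.dvd_prime Nat.prime_three).1 h7 with h8 | h8
      · exact absurd (orderOf_eq_one_iff.1 h8) hx1
      · omega
    exact hQ (Sylow.ext ((key Q).symm.trans (key Q')))
  obtain ⟨e⟩ := Finite.card_eq.1 (h4.trans (Nat.card_fin 4).symm)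
  let g : R →* Equiv.Perm (Fin 4) := e.permCongrHom.toMonoidHom.comp f
  have hg : Function.Injective g := e.permCongrHom.injective.comp hinj
  have hidx : g.range.index = 2 := by
    have h5 := g.range.card_mul_index
    rw [← Nat.card_congr (g.ofInjective hg).toEquiv, hR, Nat.card_perm, Nat.card_fin,
      show Nat.factorial 4 = 24 from rfl] at h5
    omega
  have halt := Equiv.Perm.eq_alternatingGroup_of_index_eq_two hidx
  exact ⟨(g.ofInjective hg).trans (MulEquiv.subgroupCongr halt)⟩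

/-- `R × M₁₁` with a degree divisible by 33: the first factor is `A₄`. -/
theorem nonempty_prod {G : Type u} [Group G] [Finite G] (R L : Subgroup G) [R.Normal] [L.Normal]
    (hdis : Disjoint R L) (hsup : R ⊔ L = ⊤) (hR : Nat.card R = 12) (hL : Nonempty (L ≃* ↥Cfsg.Spor.M11))
    (h33 : (Cfsg.degreeGraph G).Adj 3 11) :
    Nonempty (G ≃* alternatingGroup (Fin 4) × ↥Cfsg.Spor.M11) := by
  classical
  haveI : Fact (Nat.Prime 3) := ⟨by norm_num⟩
  obtain ⟨eL⟩ := hL
  have hcomm : ∀ (r : R) (l : L), Commute (r : G) l := fun r l =>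
    Subgroup.commute_of_normal_of_disjoint R L inferInstance inferInstance hdis _ _ r.2 l.2
  let f : R × L →* G := MonoidHom.noncommCoprod R.subtype L.subtype hcomm
  have hf : Function.Bijective f := by
    constructor
    · rw [← MonoidHom.ker_eq_bot_iff, eq_bot_iff]
      rintro ⟨r, l⟩ h
      change (r : G) * l = 1 at h
      have hr : (r : G) = ((l : G))⁻¹ := eq_inv_of_mul_eq_one_left h
      have hr1 : (r : G) = 1 := Subgroup.disjoint_def.1 hdis r.2 (hr ▸ L.inv_mem l.2)
      rw [hr1, one_mul] at h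
      exact Subgroup.mem_bot.2 (Prod.ext (Subtype.ext hr1) (Subtype.ext h))
    · intro g
      obtain ⟨a, ha, b, hb, rfl⟩ :=
        (Subgroup.mem_sup_of_normal_left (t := L)).1 (hsup ▸ Subgroup.mem_top g : g ∈ R ⊔ L)
      exact ⟨(⟨a, ha⟩, ⟨b, hb⟩), rfl⟩
  suffices hn : Nat.card (Sylow 3 R) ≠ 1 by
    obtain ⟨eR⟩ := alt_four_of_sylow hR hn
    exact ⟨(MulEquiv.ofBijective f hf).symm.trans (eR.prodCongr eL)⟩
  intro hone
  obtain ⟨Q⟩ := (inferInstance : Nonempty (Sylow 3 R))
  haveI : Subsingleton (Sylow 3 R) := Finite.card_le_one_iff_subsingleton.1 hone.le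
  haveI := Q.normal_of_subsingleton
  have hQ : Nat.card (Q : Subgroup R) = 3 :=
    CfsgLib.SmallSimple.sylow_card (r := 3) (m := 4) (by rw [hR]) (by norm_num) Q
  haveI hQc : (Q : Subgroup R).Characteristic := Q.characteristic_of_subsingleton
  set S := (Q : Subgroup R).map R.subtype with hS
  haveI : S.Normal := inferInstance
  have hScard : Nat.card S = 3 :=
    (Nat.card_congr ((Q : Subgroup R).equivMapOfInjective _ R.subtype_injective).toEquiv.symm).trans hQ
  have hSR : S ≤ R := map_subtype_le _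
  set N := S ⊔ L with hN
  haveI : N.Normal := Subgroup.sup_normal S L
  haveI : Fintype G := Fintype.ofFinite G
  haveI : Fintype N := Fintype.ofFinite N
  haveI : IsMulCommutative S :=
    haveI : IsCyclic S := isCyclic_of_prime_card hScard
    inferInstance
  have hLcard : Nat.card L = 7920 := (Nat.card_congr eL.toEquiv).trans CfsgLib.Golay.card_M11
  have hNcard : Nat.card N = 3 * 7920 := by
    have hLN : L.relIndex N = 3 := by
      rw [hN, relIndex_sup_right, ← inf_relIndex_right, inf_comm, (hdis.mono_left hSR).eq_bot,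
        relIndex_bot_left, hScard]
    have := relIndex_mul_relIndex (⊥ : Subgroup G) L N bot_le le_sup_right
    rw [relIndex_bot_left, relIndex_bot_left, hLcard, hLN] at this
    omega
  have hidx : N.index = 4 := by
    have h5 := N.card_mul_index
    have h6 : Nat.card G = 12 * 7920 := by
      rw [← Nat.card_congr (MulEquiv.ofBijective f hf).toEquiv, Nat.card_prod, hR, hLcard]
    rw [hNcard, h6] at h5
    omega
  obtain ⟨-, -, -, d, ⟨χ, rfl⟩, hd⟩ := h33
  obtain ⟨θ, hθ, hc⟩ := CfsgLib.Clifford.exists_constituent_res N χ.2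
  obtain ⟨hdvd, hi⟩ := Cfsg.Agent.S0887.result N χ χ.2 θ hθ hc _ _
    (CfsgLib.CharTools.irr_degree_cast χ).symm (CfsgLib.CharTools.irr_degree_cast ⟨θ, hθ⟩).symm
  have h33θ : 33 ∣ Cfsg.charDegree θ := by
    rw [hidx] at hi
    have hd' : 33 ∣ Cfsg.charDegree θ * (Cfsg.charDegree (χ : G → ℂ) / Cfsg.charDegree θ) := by
      rw [Nat.mul_div_cancel' hdvd]
      exact hd
    refine Nat.Coprime.dvd_of_dvd_mul_right (Nat.Coprime.coprime_dvd_right hi ?_) hd'
    norm_num
  have hcen : S.subgroupOf N ≤ center N := by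
    intro x hx
    rw [mem_center_iff]
    intro y
    apply Subtype.ext
    rw [Subgroup.coe_mul, Subgroup.coe_mul]
    obtain ⟨a, ha, b, hb, hab⟩ := (Subgroup.mem_sup_of_normal_left (t := L)).1 y.2
    rw [← hab]
    have hxS : (x : G) ∈ S := hx
    have c1 : Commute a (x : G) :=
      congrArg Subtype.val (mul_comm' (⟨a, ha⟩ : S) ⟨x, hxS⟩)
    have c2 : Commute b (x : G) := (hcomm ⟨x, hSR hxS⟩ ⟨b, hb⟩).symm
    exact (c1.mul_left c2).eq
  have hsupN : S.subgroupOf N ⊔ L.subgroupOf N = ⊤ := by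
    rw [← subgroupOf_sup le_sup_left le_sup_right]
    exact subgroupOf_self _
  have hirr := isIrr_restrict_central ⟨θ, hθ⟩ (S.subgroupOf N) (L.subgroupOf N) hcen hsupN
  haveI : Fintype ↥(L.subgroupOf N) := Fintype.ofFinite _
  have eLN : ↥(L.subgroupOf N) ≃* L := Subgroup.subgroupOfEquivOfLe le_sup_right
  haveI := CfsgLib.Golay.isSimple_M11
  haveI : IsSimpleGroup ↥(L.subgroupOf N) := (eLN.trans eL).isSimpleGroup
  refine not_three_dvd_degree (by rw [Nat.card_congr eLN.toEquiv, hLcard]) ⟨_, hirr⟩ ?_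
  have hdeg : Cfsg.charDegree (fun h : ↥(L.subgroupOf N) => θ h) = Cfsg.charDegree θ := by
    unfold Cfsg.charDegree
    simp
  exact hdeg ▸ h33θ

end CfsgLib.DegM12
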