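import Cfsg.Agent.Lib.SmallSimple.NonSimpleBase
import Cfsg.Agent.Lib.CpQuot.Basic
import Cfsg.Agent.Lib.Char.Clifford
import Cfsg.Agent.Lib.CharTools.Basic
import Cfsg.Agent.Lib.Sporadic.M11Order.Main
import Cfsg.Agent.Lib.Golay.Simple
import Cfsg.Agent.S0887
import Cfsg.Agent.S2034
import Cfsg.Agent.S2060

/-!
A group of order 95040 in which 11 and 55 divide degrees is simple, or has a direct factor `M₁₁`, given which
simple orders divisible by 11 can occur.
-/

set_option autoImplicit false
set_option linter.style.haveILetI false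

namespace CfsgLib.DegM12

open Subgroup

universe u

variable {G : Type u} [Group G] [Finite G]

/-- The subgroup generated by the elements of order 11. -/
abbrev elevenCore (G : Type u) [Group G] : Subgroup G := normalClosure {x : G | x ^ 11 = 1}

/-- No prime power dividing 8640 is one more than a multiple of 11. -/
theorem good_8640 : ∀ q i, q.Prime → 0 < i → q ^ i ∣ 8640 → ¬ 11 ∣ q ^ i - 1 := by
  haveI : Fact (Nat.Prime 11) := ⟨by norm_num⟩
  exact CfsgLib.SmallSimple.good_of_divisors (by norm_num) (by decide +kernel)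

/-- A proper normal subgroup of the group generated by the elements of order 11 is central. -/
theorem normal_le_center_or_top (hG : Nat.card G = 95040) (A : Subgroup (elevenCore G)) [A.Normal] :
    A ≤ center (elevenCore G) ∨ A = ⊤ := by
  haveI : Fact (Nat.Prime 11) := ⟨by norm_num⟩
  have hG' : Nat.card G = 11 * 8640 := by rw [hG]
  have h11 : 11 ∣ Nat.card (elevenCore G) := by
    obtain ⟨x, hx⟩ := exists_prime_orderOf_dvd_card' (G := G) 11 (hG' ▸ dvd_mul_right 11 8640)
    have hxK : x ∈ (elevenCore G) := subset_normalClosure (by rw [Set.mem_ofPred_eq, ← hx, pow_orderOf_eq_one])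
    have := orderOf_dvd_natCard (⟨x, hxK⟩ : (elevenCore G))
    rwa [Subgroup.orderOf_mk, hx] at this
  obtain ⟨m, hm⟩ := h11
  have hmd : m ∣ 8640 := Nat.dvd_of_mul_dvd_mul_left (by norm_num : 0 < 11)
    (hm ▸ hG' ▸ Subgroup.card_subgroup_dvd_card (elevenCore G))
  have hm11 : ¬ 11 ∣ m := fun h => absurd (h.trans hmd) (by norm_num)
  have hgen : ∀ B : Subgroup (elevenCore G), (∀ y : (elevenCore G), (y : G) ^ 11 = 1 → y ∈ B) → B = ⊤ := by
    intro B hB
    have hle : (elevenCore G) ≤ B.map (Subgroup.subtype (elevenCore G)) := by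
      refine (closure_le _).2 fun x hx => ?_
      obtain ⟨s, hs, hsx⟩ := Group.mem_conjugatesOfSet_iff.1 hx
      obtain ⟨c, rfl⟩ := isConj_iff.1 hsx
      have h1 : (c * s * c⁻¹) ^ 11 = 1 := by
        rw [conj_pow, show s ^ 11 = 1 from hs, mul_one, mul_inv_cancel]
      exact ⟨⟨_, subset_normalClosure h1⟩, hB _ h1, rfl⟩
    refine eq_top_iff.2 fun y _ => ?_
    obtain ⟨z, hz, hzy⟩ := hle y.2
    rwa [← Subtype.ext hzy]
  have hsyl : ∀ y : (elevenCore G), (y : G) ^ 11 = 1 → ∃ R : Sylow 11 (elevenCore G), y ∈ (R : Subgroup (elevenCore G)) := by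
    intro y hy
    obtain ⟨R, hR⟩ := IsPGroup.exists_le_sylow (p := 11) (P := zpowers y) (by
      rw [IsPGroup.iff_card]
      have : orderOf y ∣ 11 := orderOf_dvd_of_pow_eq_one (Subtype.ext (by simpa using hy))
      rcases (Nat.dvd_prime (by norm_num)).1 this with h | h
      · exact ⟨0, by rw [Nat.card_zpowers, h, pow_zero]⟩
      · exact ⟨1, by rw [Nat.card_zpowers, h, pow_one]⟩)
    exact ⟨R, hR (mem_zpowers y)⟩
  by_cases hA : 11 ∣ Nat.card A
  · right
    refine hgen A fun y hy => ?_
    obtain ⟨R, hR⟩ := hsyl y hy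
    exact CfsgLib.SmallSimple.sylow_le_normal hm hm11 hA R hR
  · left
    have hd : Nat.card A ∣ 8640 := (((Nat.Prime.coprime_iff_not_dvd (by norm_num)).2 hA).symm).dvd_of_dvd_mul_left
      ((Subgroup.card_subgroup_dvd_card A).trans (hm ▸ mul_dvd_mul_left 11 hmd))
    have hcen : ∀ a ∈ A, centralizer ({a} : Set (elevenCore G)) = ⊤ := fun a ha => hgen _ fun y hy => by
      obtain ⟨R, hR⟩ := hsyl y hy
      have := CfsgLib.SmallSimple.le_centralizer_of_all_good hm hm11 A hA
        (fun q i hq hi hdvd => good_8640 q i hq hi (hdvd.trans hd)) R ha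
      exact mem_centralizer_singleton_iff.2 (mem_centralizer_iff.1 this y hR)
    intro a ha
    refine mem_center_iff.2 fun g => ?_
    have hg : g ∈ centralizer ({a} : Set (elevenCore G)) := by rw [hcen a ha]; exact mem_top g
    exact mem_centralizer_singleton_iff.1 hg

/-- Every automorphism of a copy of `M₁₁` is inner. -/
theorem exists_conj_eq {K : Type u} [Group K] (e : K ≃* ↥Cfsg.Spor.M11) (φ : MulAut K) :
    ∃ k : K, ∀ x, φ x = k * x * k⁻¹ := by
  have hcard : Nat.card (Cfsg.Out ↥Cfsg.Spor.M11) = 1 := Cfsg.Agent.S2060.result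
  haveI := (Nat.card_eq_one_iff_unique.1 hcard).1
  obtain ⟨k, hk⟩ := (QuotientGroup.eq_one_iff (e.symm.trans (φ.trans e))).1
    (Subsingleton.elim (α := Cfsg.Out ↥Cfsg.Spor.M11) _ 1)
  refine ⟨e.symm k, fun x => e.injective ?_⟩
  have h := DFunLike.congr_fun hk (e x)
  simp only [MulAut.conj_apply, MulEquiv.trans_apply, MulEquiv.symm_apply_apply] at h
  simp only [map_mul, map_inv, MulEquiv.apply_symm_apply]
  exact h.symm

/-- A group of order 95040 with a degree divisible by 55 is simple or `R × M₁₁`. -/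
theorem main {G : Type u} [Group G] [Finite G] (hG : Nat.card G = 95040) (h11 : 11 ∈ Cfsg.degreePrimes G)
    (h511 : (Cfsg.degreeGraph G).Adj 5 11)
    (hord : ∀ (T : Type u) [Group T] [Finite T] [IsSimpleGroup T], Nat.card T ∣ 95040 → 11 ∣ Nat.card T →
      11 < Nat.card T → Nat.card T = 660 ∨ Nat.card T = 7920 ∨ Nat.card T = 95040) :
    IsSimpleGroup G ∨ ∃ R L : Subgroup G, R.Normal ∧ L.Normal ∧ Disjoint R L ∧ R ⊔ L = ⊤ ∧ Nat.card R = 12 ∧
      Nonempty (L ≃* ↥Cfsg.Spor.M11) := by
  haveI : Fact (Nat.Prime 11) := ⟨by norm_num⟩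
  have hG' : Nat.card G = 11 * 8640 := by rw [hG]
  set K := elevenCore G with hKdef
  have h11K : 11 ∣ Nat.card K := by
    obtain ⟨x, hx⟩ := exists_prime_orderOf_dvd_card' (G := G) 11 (hG' ▸ dvd_mul_right 11 8640)
    have hxK : x ∈ K := subset_normalClosure (by rw [Set.mem_ofPred_eq, ← hx, pow_orderOf_eq_one])
    have := orderOf_dvd_natCard (⟨x, hxK⟩ : K)
    rwa [Subgroup.orderOf_mk, hx] at this
  have hdichot : ∀ A : Subgroup K, A.Normal → A ≤ center K ∨ A = ⊤ := fun A hA =>
    haveI := hA
    normal_le_center_or_top hG A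
  have hnc : center K ≠ ⊤ := by
    intro htop
    haveI : IsMulCommutative K := ⟨⟨fun a b => (mem_center_iff.1 (htop ▸ mem_top b) a)⟩⟩
    have h1 := CfsgLib.SmallSimple.dvd_index_of_mem_degreePrimes h11 K
    have h2 : 11 * 11 ∣ Nat.card G := K.card_mul_index ▸ mul_dvd_mul h11K h1
    rw [hG] at h2
    norm_num at h2
  set Z := center K with hZ
  set T := K ⧸ Z with hT
  haveI : Nontrivial T := by
    rw [hT]
    refine Finite.one_lt_card_iff_nontrivial.1 ?_
    rw [← index_eq_card]
    exact one_lt_index_of_ne_top hnc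
  haveI hsimp : IsSimpleGroup T := ⟨fun N hN => by
    rcases hdichot (N.comap (QuotientGroup.mk' Z)) (hN.comap _) with h | h
    · left
      rw [← map_comap_eq_self_of_surjective (QuotientGroup.mk'_surjective Z) N, Subgroup.map_eq_bot_iff,
        QuotientGroup.ker_mk']
      exact h
    · right
      rw [← map_comap_eq_self_of_surjective (QuotientGroup.mk'_surjective Z) N, h,
        Subgroup.map_top_of_surjective _ (QuotientGroup.mk'_surjective Z)]⟩
  have hcardK : Nat.card T * Nat.card Z = Nat.card K := Z.card_eq_card_quotient_mul_card_subgroup.symm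
  have hKG : Nat.card K ∣ 95040 := hG ▸ Subgroup.card_subgroup_dvd_card K
  have h11Z : ¬ 11 ∣ Nat.card Z := by
    intro h
    haveI : (Z.map K.subtype).Normal := ⟨by
      rintro _ ⟨z, hz, rfl⟩ g
      refine ⟨⟨_, normalClosure_normal.conj_mem _ z.2 g⟩, mem_center_iff.2 fun y => Subtype.ext ?_, rfl⟩
      have hy := congrArg Subtype.val (mem_center_iff.1 hz ⟨g⁻¹ * y * g, by
        simpa using normalClosure_normal.conj_mem _ y.2 g⁻¹⟩)
      simp only [Subgroup.coe_mul] at hy
      simp only [Subgroup.coe_mul]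
      calc (y : G) * (g * z * g⁻¹) = g * ((g⁻¹ * y * g) * z) * g⁻¹ := by group
        _ = g * ((z : G) * (g⁻¹ * y * g)) * g⁻¹ := by rw [hy]
        _ = _ := by group⟩
    haveI : IsMulCommutative ↥(Z.map K.subtype) := ⟨⟨by
      rintro ⟨_, a, ha, rfl⟩ ⟨_, b, -, rfl⟩
      exact Subtype.ext (congrArg Subtype.val (mem_center_iff.1 ha b)).symm⟩⟩
    have h1 := CfsgLib.SmallSimple.dvd_index_of_mem_degreePrimes h11 (Z.map K.subtype)
    have hc : Nat.card ↥(Z.map K.subtype) = Nat.card Z :=
      Nat.card_congr (Z.equivMapOfInjective _ K.subtype_injective).toEquiv.symm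
    have h2 : 11 * 11 ∣ Nat.card G :=
      (Z.map K.subtype).card_mul_index ▸ mul_dvd_mul (hc.symm ▸ h) h1
    rw [hG] at h2
    norm_num at h2
  have hT11 : 11 ∣ Nat.card T := ((Nat.Prime.dvd_mul (by norm_num)).1 (hcardK ▸ h11K)).resolve_right h11Z
  have hTgt : 11 < Nat.card T := by
    refine lt_of_le_of_ne (Nat.le_of_dvd Nat.card_pos hT11) fun h => hnc ?_
    haveI : IsCyclic T := isCyclic_of_prime_card h.symm
    have hcomm : ∀ a b : K, a * b = b * a :=
      commutative_of_cyclic_center_quotient (QuotientGroup.mk' Z) (by rw [QuotientGroup.ker_mk'])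
    exact eq_top_iff.2 fun a _ => mem_center_iff.2 fun b => hcomm b a
  rcases hord T ((Dvd.intro _ hcardK).trans hKG) hT11 hTgt with h | h | h
  · -- `L₂(11)` has no room for a degree divisible by 55
    exfalso
    obtain ⟨-, -, -, d, ⟨χ, rfl⟩, hd⟩ := h511
    haveI := Fintype.ofFinite G
    haveI := Fintype.ofFinite K
    obtain ⟨θ, hθ, hc⟩ := CfsgLib.Clifford.exists_constituent_res K χ.2
    obtain ⟨hdvd, hidx⟩ := Cfsg.Agent.S0887.result K χ χ.2 θ hθ hc _ _
      (CfsgLib.CharTools.irr_degree_cast χ).symm (CfsgLib.CharTools.irr_degree_cast ⟨θ, hθ⟩).symm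
    have hi : K.index ∣ 144 := by
      have h1 : 660 * K.index ∣ Nat.card G :=
        K.card_mul_index ▸ mul_dvd_mul_right (h ▸ Dvd.intro _ hcardK) _
      rw [hG, show 95040 = 660 * 144 by norm_num] at h1
      exact Nat.dvd_of_mul_dvd_mul_left (by norm_num) h1
    have h55 : 55 ∣ Cfsg.charDegree θ := by
      have hd' : 55 ∣ Cfsg.charDegree θ * (Cfsg.charDegree (χ : G → ℂ) / Cfsg.charDegree θ) := by
        rwa [Nat.mul_div_cancel' hdvd]
      refine Nat.Coprime.dvd_of_dvd_mul_right (Nat.Coprime.coprime_dvd_right (hidx.trans hi) ?_) hd'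
      norm_num
    have hsq := CfsgLib.CharTools.degree_sq_mul_le ⟨θ, hθ⟩ Z le_rfl
    rw [← hcardK, h] at hsq
    have h2 : Cfsg.charDegree θ ^ 2 ≤ 660 := Nat.le_of_mul_le_mul_right hsq Nat.card_pos
    have h0 : Cfsg.charDegree θ ≠ 0 := fun h0 => CfsgLib.CharTools.irr_apply_one_ne_zero ⟨θ, hθ⟩ (by
      rw [← CfsgLib.CharTools.irr_degree_cast ⟨θ, hθ⟩]
      exact_mod_cast h0)
    have h3 := Nat.pow_le_pow_left (Nat.le_of_dvd (Nat.pos_of_ne_zero h0) h55) 2
    omega
  · -- `M₁₁` splits off
    right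
    haveI := CfsgLib.Golay.isSimple_M11
    obtain ⟨e₀⟩ := CfsgLib.M11Order.nonempty_mulEquiv (G := T) (H := ↥Cfsg.Spor.M11) h CfsgLib.Golay.card_M11
    let σ : K →* ↥Cfsg.Spor.M11 := e₀.toMonoidHom.comp (QuotientGroup.mk' Z)
    have hσk : σ.ker = Z := by
      ext x
      simp only [σ, MonoidHom.mem_ker, MonoidHom.comp_apply, MulEquiv.coe_toMonoidHom,
        EmbeddingLike.map_eq_one_iff]
      exact QuotientGroup.eq_one_iff x
    have hσs : Function.Surjective σ := e₀.surjective.comp (QuotientGroup.mk'_surjective Z)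
    have hperf : Group.IsPerfect K := by
      rw [Group.isPerfect_def]
      rcases hdichot (commutator K) inferInstance with hc | hc
      · exfalso
        have hab : ∀ a b : T, a * b = b * a := by
          intro a b
          obtain ⟨a, rfl⟩ := QuotientGroup.mk'_surjective Z a
          obtain ⟨b, rfl⟩ := QuotientGroup.mk'_surjective Z b
          rw [← map_mul, ← map_mul, QuotientGroup.mk'_apply, QuotientGroup.mk'_apply, QuotientGroup.eq]
          have := hc (show _ ∈ commutator K from Subgroup.commutator_mem_commutator (mem_top b⁻¹) (mem_top a⁻¹))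
          simpa [commutatorElement_def, mul_assoc] using this
        letI : CommGroup T := { (inferInstance : Group T) with mul_comm := hab }
        have hp : (Nat.card T).Prime := IsSimpleGroup.prime_card
        rw [h] at hp
        norm_num at hp
      · exact hc
    have hstem : Cfsg.IsStemExtension σ :=
      ⟨hσs, hσk.le, fun x _ => (Group.isPerfect_def.1 hperf).ge (mem_top x)⟩
    have hd := CfsgLib.CpQuot.stemKer_dvd Cfsg.Agent.S2034.result σ hstem
    have hZ1 : Nat.card Z = 1 := by
      rw [hσk] at hd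
      simpa using hd
    have hinj : Function.Injective σ := by
      rw [← MonoidHom.ker_eq_bot_iff, hσk]
      exact eq_bot_of_card_eq _ hZ1
    let e : K ≃* ↥Cfsg.Spor.M11 := MulEquiv.ofBijective σ ⟨hinj, hσs⟩
    set C := centralizer (K : Set G) with hCdef
    have hsup : C ⊔ K = ⊤ := eq_top_iff.2 fun g _ => by
      obtain ⟨k, hk⟩ := exists_conj_eq e (MulAut.conjNormal g)
      have hC : (k : G)⁻¹ * g ∈ C := mem_centralizer_iff.2 fun y hy => by
        have h1 := congrArg Subtype.val (hk ⟨y, hy⟩)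
        simp only [MulAut.conjNormal_apply, Subgroup.coe_mul, Subgroup.coe_inv] at h1
        calc y * ((k : G)⁻¹ * g) = (k : G)⁻¹ * ((k : G) * y * (k : G)⁻¹) * g := by group
          _ = (k : G)⁻¹ * (g * y * g⁻¹) * g := by rw [h1]
          _ = _ := by group
      have := mul_mem (mem_sup_right (S := C) k.2) (mem_sup_left (T := K) hC)
      rwa [mul_inv_cancel_left] at this
    have hbot : C ⊓ K = ⊥ := by
      rw [eq_bot_iff]
      rintro x ⟨hxC, hxK⟩
      have hx : (⟨x, hxK⟩ : K) ∈ Z := mem_center_iff.2 fun y =>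
        Subtype.ext (mem_centralizer_iff.1 hxC y y.2)
      rw [eq_bot_of_card_eq _ hZ1, Subgroup.mem_bot] at hx
      exact congrArg Subtype.val hx
    refine ⟨C, K, inferInstance, normalClosure_normal, disjoint_iff.2 hbot, hsup, ?_, ⟨e⟩⟩
    have hindex : C.index = Nat.card K := by
      rw [← relIndex_top_right, ← hsup, sup_comm, relIndex_sup_right, ← inf_relIndex_right, hbot,
        relIndex_bot_left]
    have h7 : Nat.card K = 7920 := by rw [← hcardK, h, hZ1]
    have := C.card_mul_index
    rw [hindex, h7, hG] at this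
    omega
  · -- simple
    left
    have hle := Nat.le_of_dvd (by norm_num) hKG
    rw [← hcardK, h] at hle
    have hZ1 : Nat.card Z = 1 := by
      have := Nat.card_pos (α := Z)
      omega
    have htop : K = ⊤ := eq_top_of_card_eq _ (by rw [← hcardK, h, hZ1, mul_one, hG])
    haveI : Nontrivial K := Finite.one_lt_card_iff_nontrivial.1 (by rw [← hcardK, h, hZ1]; norm_num)
    haveI : IsSimpleGroup K := by
      refine ⟨fun N hN => ?_⟩
      rcases hdichot N hN with hc | hc
      · left
        rw [eq_bot_of_card_eq Z hZ1] at hc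
        exact le_bot_iff.1 hc
      · exact Or.inr hc
    haveI : Nontrivial G := Finite.one_lt_card_iff_nontrivial.1 (by omega)
    exact IsSimpleGroup.isSimpleGroup_of_surjective K.subtype fun g => ⟨⟨g, htop ▸ mem_top g⟩, rfl⟩

end CfsgLib.DegM12
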